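import Groth.Agent.EtDvrCd.Field
import Groth.Agent.FieldCd.DimOne
import Groth.Agent.EtCdFun.Fibre
import Groth.Agent.S3073
import Groth.Agent.S0540
import Groth.Agent.S0541
import Groth.Agent.AnLocal.Henselian

/-!
# The fraction field of a henselian domain of dimension one: upper bound
-/

set_option autoImplicit false
set_option linter.unusedSectionVars false
set_option linter.style.haveILetI false
set_option backward.isDefEq.respectTransparency false
set_option backward.isDefEq.respectTransparency.types false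

universe u

open CategoryTheory CategoryTheory.Limits AlgebraicGeometry Opposite Abelian IsLocalRing

noncomputable section

namespace Groth.Agent.EtDvrCd

open GalCd5 FieldCd EtFound

attribute [local instance] EtFound.pull_preservesFiniteLimits

/-- residue fields at primes of strictly henselian rings of dimension at most one -/
theorem vd_frac_sh (R : Type u) [CommRing R] [IsNoetherianRing R] [HenselianLocalRing R]
    [IsSepClosed (ResidueField R)] (hdim : ringKrullDim R ≤ 1) (P : Ideal R) [P.IsPrime] {ℓ : ℕ} (hℓ : ℓ.Prime)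
    (hℓR : IsUnit (ℓ : R)) : Vd ℓ (FractionRing (R ⧸ P)) 1 := by
  haveI : Nontrivial (R ⧸ P) := Ideal.Quotient.nontrivial_iff.2 (Ideal.IsPrime.ne_top ‹_›)
  haveI : HenselianLocalRing (R ⧸ P) :=
    AnLocal.henselianLocalRing_of_surjective' (Ideal.Quotient.mk P) Ideal.Quotient.mk_surjective
  haveI : IsLocalHom (Ideal.Quotient.mk P) := IsLocalHom.of_surjective _ Ideal.Quotient.mk_surjective
  haveI : IsSepClosed (ResidueField (R ⧸ P)) := EtCdFun.isSepClosed_of_equiv
    (RingEquiv.ofBijective (ResidueField.map (Ideal.Quotient.mk P))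
      ⟨RingHom.injective _, fun z => by
        obtain ⟨a, rfl⟩ := residue_surjective z
        obtain ⟨b, rfl⟩ := Ideal.Quotient.mk_surjective a
        exact ⟨residue R b, ResidueField.map_residue _ b⟩⟩)
  haveI : Ring.KrullDimLE 1 (R ⧸ P) := (Ring.krullDimLE_iff (R := R ⧸ P) (n := 1)).2
    ((ringKrullDim_quotient_le P).trans hdim)
  by_cases hf : IsField (R ⧸ P)
  · -- the fraction field is then separably closed
    let K := FractionRing (R ⧸ P)
    let e : (R ⧸ P) ≃+* K := RingEquiv.ofBijective (algebraMap (R ⧸ P) K)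
      ⟨IsFractionRing.injective _ _, fun z => by
        obtain ⟨a, b, hb, rfl⟩ := IsFractionRing.div_surjective (R ⧸ P) z
        obtain ⟨c, hc⟩ := hf.mul_inv_cancel (nonZeroDivisors.ne_zero hb)
        refine ⟨a * c, eq_div_of_mul_eq ?_ ?_⟩
        · exact IsFractionRing.to_map_ne_zero_of_mem_nonZeroDivisors hb
        · rw [← map_mul, mul_assoc, mul_comm c b, hc, mul_one]⟩
    have hm := IsLocalRing.isField_iff_maximalIdeal_eq.1 hf
    let ρ : (R ⧸ P) ≃+* ResidueField (R ⧸ P) := RingEquiv.ofBijective (residue _)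
      ⟨(RingHom.injective_iff_ker_eq_bot _).2 ((IsLocalRing.ker_residue (R := R ⧸ P)).trans hm), residue_surjective⟩
    haveI : IsSepClosed K := @EtCdFun.isSepClosed_of_equiv (ResidueField (R ⧸ P)) K _ _ (ρ.symm.trans e) ‹_›
    haveI : IsSepClosed (ResidueField K) := EtCdFun.isSepClosed_of_equiv
      (RingEquiv.ofBijective (residue K) ⟨RingHom.injective _, IsLocalRing.residue_surjective⟩)
    exact fun F a _ q hq => S0073.result K F q (by omega)
  · have hd : ringKrullDim (R ⧸ P) = 1 :=
      le_antisymm ((ringKrullDim_quotient_le P).trans hdim) (Order.one_le_krullDim_iff.2 (by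
        have hm : maximalIdeal (R ⧸ P) ≠ ⊥ := fun h => hf (IsLocalRing.isField_iff_maximalIdeal_eq.2 h)
        exact ⟨⟨⊥, Ideal.bot_prime⟩, ⟨maximalIdeal (R ⧸ P), inferInstance⟩, lt_of_le_of_ne (show (⊥ : Ideal (R ⧸ P)) ≤ maximalIdeal (R ⧸ P) from bot_le)
          fun h => hm.symm (congrArg PrimeSpectrum.asIdeal h)⟩))
    exact vd_one_of_goodExt hℓ fun E _ _ _ _ => good_of_dim_one (R ⧸ P) (FractionRing (R ⧸ P)) hd hℓ
      (by simpa using hℓR.map (Ideal.Quotient.mk P)) E

/-- the generic point raises the cohomological dimension by at most one -/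
theorem vd_residueField_upper (A : Type u) [CommRing A] [IsNoetherianRing A] [HenselianLocalRing A]
    (hdim : ringKrullDim A ≤ 1) {ℓ : ℕ} (hℓ : ℓ.Prime) (hℓA : IsUnit (ℓ : A)) {e : ℕ}
    (hk : Vd ℓ (ResidueField A) e) (x : Spec (CommRingCat.of A)) :
    Vd ℓ ((Spec (CommRingCat.of A)).residueField x) (e + 1) := by
  let X := Spec (CommRingCat.of A)
  let i := X.fromSpecResidueField x
  intro G a hG N hN
  haveI : QuasiCompact i := quasiCompact_of_compactSpace _
  haveI : (EtCoh.push i).Additive := (EtCoh.pullPushAdj i).right_adjoint_additive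
  let s := Spec.map (CommRingCat.ofHom (IsLocalRing.residue A))
  haveI : (EtCoh.pull s).Additive := (EtCoh.pullPushAdj s).left_adjoint_additive
  have hloc : ∀ (F : EtCoh.Ab X), (ℓ ^ a) • 𝟙 F = 0 → ∀ q, e < q → Subsingleton (EtCoh.H X F q) := fun F hF q hq =>
    haveI := hk _ a (killed_map (EtCoh.pull s) F _ hF) q hq
    (S3073.result A F q).1.subsingleton
  refine EtCdp5.subsingleton_H_of_leray i N (by omega) G (hloc _ (killed_map _ _ _ hG) N (by omega))
    fun c b hb hcb => ?_
  haveI : (EtCoh.Rpush i b).Additive := inferInstanceAs ((EtCoh.push i).rightDerived b).Additive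
  by_cases hb1 : b = 1
  · exact hloc _ (killed_map _ _ _ hG) c (by omega)
  haveI : IsNoetherian X := inferInstance
  refine EtCdp5.subsingleton_H_of_isZero ((isZero_iff_stalks _).2 fun Ω _ _ ξ => ?_) c
  refine EtCdFun.isZero_stalk_Rpush_point x G a hG b ξ fun hxy R _ _ _ _ _ P hP => ?_
  haveI : P.IsPrime := hP.1.1
  refine ⟨1, by omega, cohDimLEAt_of_vanAbove hℓ ?_⟩
  let y := ξ.base (default : Spec (CommRingCat.of Ω))
  haveI : IsNoetherianRing R := (S0540.result (X.presheaf.stalk y) R).1 inferInstance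
  haveI : HenselianLocalRing R := _root_.Hensel.IsStrictHenselization.henselian (R := X.presheaf.stalk y)
  haveI : IsSepClosed (ResidueField R) :=
    (_root_.Hensel.IsStrictHenselization.isSepClosure (R := X.presheaf.stalk y) (S := R)).sep_closed
  have hR : ringKrullDim R ≤ 1 := by
    rw [S0541.result (X.presheaf.stalk y) R]
    letI : Algebra A (X.presheaf.stalk y) := StructureSheaf.stalkAlgebra A y
    haveI : IsLocalization.AtPrime (X.presheaf.stalk y) y.asIdeal := StructureSheaf.IsLocalization.to_stalk A y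
    rw [IsLocalization.AtPrime.ringKrullDim_eq_height y.asIdeal (X.presheaf.stalk y)]
    exact (Ideal.height_le_ringKrullDim_of_ne_top y.isPrime.ne_top).trans hdim
  refine vd_frac_sh R hR P hℓ ?_
  letI : Algebra A (X.presheaf.stalk y) := StructureSheaf.stalkAlgebra A y
  simpa using (hℓA.map (algebraMap A (X.presheaf.stalk y))).map (algebraMap (X.presheaf.stalk y) R)

/-- the fraction fields at the primes -/
theorem vd_fraction_upper (A : Type u) [CommRing A] [IsNoetherianRing A] [HenselianLocalRing A]
    (hdim : ringKrullDim A ≤ 1) {ℓ : ℕ} (hℓ : ℓ.Prime) (hℓA : IsUnit (ℓ : A)) {e : ℕ}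
    (hk : Vd ℓ (ResidueField A) e) (P : Ideal A) [P.IsPrime] : Vd ℓ (FractionRing (A ⧸ P)) (e + 1) :=
  by
  let x : PrimeSpectrum A := ⟨P, ‹_›⟩
  let e : (Spec (CommRingCat.of A)).residueField x ≃+* FractionRing (A ⧸ P) :=
    ((Scheme.Spec.residueFieldIso (CommRingCat.of A) x).commRingCatIsoToRingEquiv).trans
      (FractionRing.algEquiv (A ⧸ P) P.ResidueField).symm.toRingEquiv
  letI : Algebra ((Spec (CommRingCat.of A)).residueField x) (FractionRing (A ⧸ P)) := e.toRingHom.toAlgebra
  exact vd_of_ringEquiv e (vd_residueField_upper A hdim hℓ hℓA hk x)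

end Groth.Agent.EtDvrCd
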