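import Groth.Agent.EtDvrCd.Tower
import Groth.Agent.FieldCd.DimOne
import Groth.Agent.FieldCd.Tsen
import Groth.Agent.EtCdFun.Main
import Groth.Agent.AcycFin.Compare
import Groth.Agent.BcQCalc.CompPullback

/-!
# The cohomological dimension of fields with the power property
-/

set_option autoImplicit false
set_option linter.unusedSectionVars false
set_option linter.style.haveILetI false
set_option backward.isDefEq.respectTransparency false
set_option backward.isDefEq.respectTransparency.types false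

universe u

open CategoryTheory CategoryTheory.Limits AlgebraicGeometry Opposite Abelian IsLocalRing

noncomputable section

namespace Groth.Agent.EtDvrCd

open GalCd5 FieldCd

attribute [local instance] EtFound.pull_preservesFiniteLimits

variable (K : Type u) [Field K] (ℓ : ℕ)

/-- all finite separable extensions have the power property -/
def GoodExt : Prop :=
  ∀ (E : Type u) [Field E] [Algebra K E] [FiniteDimensional K E] [Algebra.IsSeparable K E], Good ℓ E

variable {K ℓ}

theorem GoodExt.good (h : GoodExt K ℓ) : Good ℓ K := h K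

theorem GoodExt.ext (h : GoodExt K ℓ) (L : Type u) [Field L] [Algebra K L] [FiniteDimensional K L]
    [Algebra.IsSeparable K L] : GoodExt L ℓ := fun E _ _ _ _ => by
  letI : Algebra K E := ((algebraMap L E).comp (algebraMap K L)).toAlgebra
  haveI : IsScalarTower K L E := .of_algebraMap_eq' rfl
  haveI : FiniteDimensional K E := Module.Finite.trans L E
  haveI : Algebra.IsSeparable K E := Algebra.IsSeparable.trans K L E
  exact h E

theorem GoodExt.etale (h : GoodExt K ℓ) (E : Type u) [Field E]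
    (e : Spec (CommRingCat.of E) ⟶ Spec (CommRingCat.of K)) [AlgebraicGeometry.Etale e] : Good ℓ E := by
  obtain ⟨φ, rfl⟩ := Spec.map_surjective e
  algebraize [φ.hom]
  have hft : φ.hom.FiniteType := (HasRingHomProperty.Spec_iff (P := @LocallyOfFiniteType)).1 inferInstance
  haveI : Algebra.FiniteType K E := hft
  haveI : FiniteDimensional K E := finite_of_finite_type_of_isJacobsonRing K E
  have het : φ.hom.Etale := (HasRingHomProperty.Spec_iff (P := @AlgebraicGeometry.Etale)).1 inferInstance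
  haveI : Algebra.Etale K E := het
  haveI : Algebra.IsSeparable K E := (Algebra.FormallyUnramified.iff_isSeparable K E).1 inferInstance
  exact h E

/-- `H²(Gm)` has no `ℓ`-torsion -/
theorem eq_zero_H2_Gm (hℓ : ℓ.Prime) (h : GoodExt K ℓ)
    (x : EtCoh.H (Spec (CommRingCat.of K)) (EtCoh.Gm (Spec (CommRingCat.of K))) 2) {a : ℕ} (ha : ℓ ^ a • x = 0) :
    x = 0 := by
  let X := Spec (CommRingCat.of K)
  let f := fun y : EtCoh.H X (EtCoh.Gm X) 2 =>
    (Ext.mk₀ (CurveCd.topIso (X := X)).hom).comp y (zero_add 2)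
  have hy : f x = 0 := by
    refine eq_zero_of_pow_nsmul_two hℓ (fun E _ e _ => h.etale E e) (𝟙 X) (f x) (a := a) ?_
    refine (map_nsmul ((Ext.bilinearComp (CurveCd.free (EtCoh.top X)) _ (EtCoh.Gm X) 0 2 2 (zero_add 2))
      (Ext.mk₀ (CurveCd.topIso (X := X)).hom)) (ℓ ^ a) x).symm.trans ?_
    rw [ha, map_zero]
  have h2 := congrArg (fun z => (Ext.mk₀ (CurveCd.topIso (X := X)).inv).comp z (zero_add 2)) hy
  simpa [f, Ext.mk₀_comp_mk₀_assoc] using h2

theorem subsingleton_H2_zmod (hℓ : ℓ.Prime) (h : GoodExt K ℓ) :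
    Subsingleton (EtCoh.H (Spec (CommRingCat.of K)) (EtCoh.const (Spec (CommRingCat.of K)) (ZMod ℓ)) 2) := by
  haveI : NeZero ℓ := ⟨hℓ.ne_zero⟩
  haveI : Fact ℓ.Prime := ⟨hℓ⟩
  let X := Spec (CommRingCat.of K)
  obtain ⟨ζ₀, hζ₀⟩ := h.good.root
  have hu : IsUnit (ℓ : Γ(X, ⊤)) := CurveCd.natCast_isUnit_sections h.good.inv
  let e := (Scheme.ΓSpecIso (CommRingCat.of K)).inv.hom
  have hζ : Polynomial.aeval (e ζ₀ : Γ(X, ⊤)) (Polynomial.cyclotomic ℓ ℤ) = 0 := by
    refine (Polynomial.aeval_algHom_apply e.toIntAlgHom ζ₀ _).trans ((congrArg _ ?_).trans (map_zero _))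
    rw [Polynomial.aeval_def, ← Polynomial.eval_map, Polynomial.map_cyclotomic]
    exact hζ₀.isRoot_cyclotomic hℓ.pos
  obtain ⟨emu⟩ := EtLC12.MuConst.nonempty_mu_iso_const hu (e ζ₀) hζ
  refine subsingleton_H_of_iso emu 2 ?_
  haveI : Epi (EtCoh.powMap X ℓ) := S0108.result X ℓ hu
  let S := ShortComplex.mk (kernel.ι (EtCoh.powMap X ℓ)) (EtCoh.powMap X ℓ) (kernel.condition _)
  have hS : S.ShortExact := { exact := ShortComplex.exact_of_f_is_kernel _ (kernelIsKernel _) }
  refine subsingleton_of_forall_eq 0 fun x => ?_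
  have hx : ℓ • x = 0 := by
    refine (H9Transfer.comp_nsmul_id (F := EtCoh.mu X ℓ) x ℓ).symm.trans ?_
    rw [killed_mu X ℓ, Ext.mk₀_zero, Ext.comp_zero]
  have hz : x.comp (Ext.mk₀ S.f) (add_zero 2) = 0 := by
    refine eq_zero_H2_Gm hℓ h _ (a := 1) ?_
    refine (map_nsmul ((Ext.bilinearComp (EtCoh.const X ℤ) S.X₁ S.X₂ 2 0 2 (add_zero 2)).flip (Ext.mk₀ S.f)) (ℓ ^ 1) x).symm.trans ?_
    rw [pow_one]
    exact (congrArg _ hx).trans (map_zero _)
  obtain ⟨w, hw⟩ := Ext.covariant_sequence_exact₁ _ hS x hz (rfl : 1 + 1 = 2)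
  haveI : Subsingleton (EtCoh.H X (EtCoh.Gm X) 1) :=
    (CurveCd.subsingleton_H_iff _ 1).2 (subsingleton_ext_Gm_one (𝟙 X))
  rw [← hw, Subsingleton.elim (α := EtCoh.H X (EtCoh.Gm X) 1) w 0, Ext.zero_comp]

/-- the cohomological dimension is at most one -/
theorem vd_one_of_goodExt (hℓ : ℓ.Prime) (h : GoodExt K ℓ) : Vd ℓ K 1 := by
  suffices hk : ∀ (r : ℕ) (F : EtCoh.Ab (Spec (CommRingCat.of K))) (a : ℕ), (ℓ ^ a) • 𝟙 F = 0 →
      Subsingleton (EtCoh.H (Spec (CommRingCat.of K)) F (r + 2)) by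
    intro F a hF q hq
    obtain ⟨r, rfl⟩ : ∃ r, q = r + 2 := ⟨q - 2, by omega⟩
    exact hk r F a hF
  intro r
  induction r with
  | zero =>
    intro F a hF
    exact CurveCd.subsingleton_H_of_isLTorsion K ℓ hℓ 2
      (fun L _ _ _ _ => subsingleton_H2_zmod hℓ (h.ext L)) F (isLTorsion_of_killed ℓ a hF)
  | succ r ih =>
    intro F a hF
    let Ω := SeparableClosure K
    let π := Spec.map (CommRingCat.ofHom (algebraMap K Ω))
    haveI : IsIntegralHom π := IsIntegralHom.SpecMap_iff.2 (algebraMap_isIntegral_iff.2 inferInstance)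
    haveI : Surjective π := ⟨fun _ => ⟨default, Subsingleton.elim (α := Spec (CommRingCat.of K)) _ _⟩⟩
    haveI := AcycFin.mono_unit π F
    haveI := (EtCoh.pullPushAdj π).left_adjoint_additive
    haveI := (EtCoh.pullPushAdj π).right_adjoint_additive
    haveI : IsSepClosed (ResidueField Ω) := EtCdFun.isSepClosed_of_equiv
      (RingEquiv.ofBijective (residue Ω) ⟨RingHom.injective _, IsLocalRing.residue_surjective⟩)
    have hP : (ℓ ^ a) • 𝟙 ((EtCoh.push π).obj ((EtCoh.pull π).obj F)) = 0 :=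
      killed_map _ _ _ (killed_map (EtCoh.pull π) F _ hF)
    let S := ShortComplex.mk ((EtCoh.pullPushAdj π).unit.app F) (cokernel.π _) (cokernel.condition _)
    have hS : S.ShortExact :=
      { exact := ShortComplex.exact_of_g_is_cokernel S (cokernelIsCokernel _)
        mono_f := inferInstanceAs (Mono ((EtCoh.pullPushAdj π).unit.app F))
        epi_g := inferInstanceAs (Epi (cokernel.π _)) }
    haveI : Subsingleton (EtCoh.H _ S.X₂ (r + 1 + 2)) :=
      (BcQCalc.subsingleton_H_push_iff π (r + 2) ((EtCoh.pull π).obj F)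
        (fun j _ => S3054.result π _ (j + 1) (Nat.succ_pos j))).1 (S0073.result Ω _ _ (by omega))
    refine subsingleton_of_forall_eq 0 fun x => ?_
    obtain ⟨y, rfl⟩ := Ext.covariant_sequence_exact₁ _ hS x
      (Subsingleton.elim (α := EtCoh.H _ S.X₂ (r + 1 + 2)) _ _) (rfl : (r + 2) + 1 = r + 1 + 2)
    haveI := ih S.X₃ a (by
      show (ℓ ^ a) • 𝟙 (cokernel _) = 0
      rw [← cancel_epi (cokernel.π ((EtCoh.pullPushAdj π).unit.app F)), comp_zero, Preadditive.comp_nsmul, Category.comp_id]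
      refine (show (ℓ ^ a) • cokernel.π ((EtCoh.pullPushAdj π).unit.app F) =
        ((ℓ ^ a) • 𝟙 _) ≫ cokernel.π _ by rw [Preadditive.nsmul_comp, Category.id_comp]).trans ?_
      erw [hP]
      exact zero_comp)
    rw [Subsingleton.elim (α := EtCoh.H _ S.X₃ (r + 2)) y 0, Ext.zero_comp]

end Groth.Agent.EtDvrCd
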