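import Groth.Agent.Hensel.IntegralStrict
import Groth.Agent.KrullAki.Valuation
import Groth.Agent.TameKummer.Basic
import Mathlib.FieldTheory.KummerExtension
import Mathlib.RingTheory.DedekindDomain.IntegralClosure
import Mathlib.RingTheory.DedekindDomain.PID

/-!
# Fraction fields of strictly henselian discrete valuation rings: powers and norms
-/

set_option autoImplicit false
set_option backward.isDefEq.respectTransparency false
set_option backward.isDefEq.respectTransparency.types false

universe u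

open Polynomial IsLocalRing IntermediateField

noncomputable section

namespace Groth.Agent.EtDvrCd

/-- every element is a power times a power of one fixed element, roots of unity included -/
structure Good (ℓ : ℕ) (E : Type u) [Field E] : Prop where
  gen : ∃ π : E, ∀ x : E, x ≠ 0 → ∃ (y : E) (i : ℕ), x = y ^ ℓ * π ^ i
  neg : ∃ c : E, c ^ ℓ = -1
  root : ∃ ζ : E, IsPrimitiveRoot ζ ℓ
  inv : (ℓ : E) ≠ 0

theorem exists_root' (S : Type u) [CommRing S] [HenselianLocalRing S] [IsSepClosed (ResidueField S)]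
    {n : ℕ} (hn : IsUnit (n : S)) (v : Sˣ) : ∃ w : S, w ^ n = v := by
  haveI : NeZero ((n : ℕ) : ResidueField S) := ⟨by
    rw [← map_natCast (residue S) n]
    exact (residue_ne_zero_iff_isUnit _).2 hn⟩
  obtain ⟨c, hc⟩ := IsSepClosed.exists_pow_nat_eq (residue S (v : S)) n
  obtain ⟨w, hw, -⟩ := TameKummer.exists_lift_root S hn v hc
  exact ⟨w, hw⟩

/-- fraction fields of strictly henselian discrete valuation rings -/
theorem good_of_dvr (S E : Type u) [CommRing S] [IsDomain S] [IsDiscreteValuationRing S] [HenselianLocalRing S]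
    [IsSepClosed (ResidueField S)] [Field E] [Algebra S E] [IsFractionRing S E] {ℓ : ℕ} (hℓ : ℓ.Prime)
    (hℓS : IsUnit (ℓ : S)) : Good ℓ E := by
  have hinj : Function.Injective (algebraMap S E) := IsFractionRing.injective S E
  have hinv : (ℓ : E) ≠ 0 := by
    rw [← map_natCast (algebraMap S E) ℓ]
    exact fun h => hℓS.ne_zero (hinj (h.trans (map_zero _).symm))
  obtain ⟨ϖ, hϖ⟩ := IsDiscreteValuationRing.exists_irreducible S
  obtain ⟨m, hm⟩ : ∃ m, ℓ = m + 1 := ⟨ℓ - 1, by have := hℓ.two_le; omega⟩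
  refine ⟨⟨algebraMap S E ϖ, fun x hx => ?_⟩, ?_, ?_, hinv⟩
  · obtain ⟨a, b, hb, rfl⟩ := IsFractionRing.div_surjective S x
    have hb0 : b ≠ 0 := nonZeroDivisors.ne_zero hb
    have hb' : algebraMap S E b ≠ 0 := fun h => hb0 (hinj (h.trans (map_zero _).symm))
    have hc0 : a * b ^ m ≠ 0 := mul_ne_zero (fun h => hx (by rw [h, map_zero, zero_div])) (pow_ne_zero _ hb0)
    obtain ⟨i, v, hv⟩ := IsDiscreteValuationRing.eq_unit_mul_pow_irreducible hc0 hϖ
    obtain ⟨w, hw⟩ := exists_root' S hℓS v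
    refine ⟨algebraMap S E w / algebraMap S E b, i, ?_⟩
    rw [div_pow, ← map_pow, hw, div_mul_eq_mul_div, ← map_pow, ← map_mul, ← hv, map_mul, map_pow, hm, pow_succ]
    field_simp
  · obtain ⟨w, hw⟩ := exists_root' S hℓS (-1)
    exact ⟨algebraMap S E w, by rw [← map_pow, hw, Units.val_neg, Units.val_one, map_neg, map_one]⟩
  · haveI : NeZero ((ℓ : ℕ) : ResidueField S) := ⟨by
      rw [← map_natCast (residue S) ℓ]
      exact (residue_ne_zero_iff_isUnit _).2 hℓS⟩
    haveI : Fact ℓ.Prime := ⟨hℓ⟩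
    obtain ⟨c, hc⟩ := IsSepClosed.exists_root (cyclotomic ℓ (ResidueField S))
      (by rw [degree_cyclotomic]; exact_mod_cast (Nat.totient_pos.2 hℓ.pos).ne')
      (separable_cyclotomic ℓ _)
    have hcp : IsPrimitiveRoot c ℓ := isRoot_cyclotomic_iff.1 hc
    obtain ⟨w, hw, hwc⟩ := TameKummer.exists_lift_root S hℓS 1 (c := c) (by simpa using hcp.pow_eq_one)
    refine ⟨algebraMap S E w, IsPrimitiveRoot.iff_def _ _ |>.2 ⟨by rw [← map_pow, hw, Units.val_one, map_one], fun l hl => ?_⟩⟩
    refine (hcp.pow_eq_one_iff_dvd l).1 ?_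
    rw [← hwc, ← map_pow, show w ^ l = 1 from hinj (by rw [map_pow, hl, map_one]), map_one]

/-- norms of cyclic extensions of prime degree are surjective -/
theorem norm_surjective {ℓ : ℕ} (hℓ : ℓ.Prime) {E : Type u} [Field E] (hE : Good ℓ E) (L : Type u) [Field L]
    [Algebra E L] [FiniteDimensional E L] [IsGalois E L] [IsCyclic Gal(L/E)] (hL : Module.finrank E L = ℓ) :
    Function.Surjective (Algebra.norm E : L → E) := by
  obtain ⟨ζ, hζ⟩ := hE.root
  obtain ⟨c, hc⟩ := hE.neg
  obtain ⟨π, hπ⟩ := hE.gen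
  obtain ⟨α, ⟨a, ha⟩, hα⟩ := exists_root_adjoin_eq_top_of_isCyclic (K := E) (L := L)
    ⟨ζ, (mem_primitiveRoots (by rw [hL]; exact hℓ.pos)).2 (by rw [hL]; exact hζ)⟩
  rw [hL] at ha
  have hirr : Irreducible (X ^ ℓ - C a) := by
    have := irreducible_X_pow_sub_C_of_root_adjoin_eq_top (K := E) (L := L) (a := a) (α := α) (by rw [hL, ha]) hα
    rwa [hL] at this
  have hint : IsIntegral E α := Algebra.IsIntegral.isIntegral α
  have hmin : minpoly E α = X ^ ℓ - C a :=
    (minpoly.eq_of_irreducible_of_monic hirr (by simp [ha]) (monic_X_pow_sub_C _ hℓ.ne_zero)).symm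
  let pb := (IntermediateField.adjoin.powerBasis hint).map ((IntermediateField.equivOfEq hα).trans topEquiv)
  have hgen : pb.gen = α := rfl
  have hN : Algebra.norm E α = (-1) ^ ℓ * -a := by
    rw [← hgen, Algebra.PowerBasis.norm_gen_eq_coeff_zero_minpoly, hgen, hmin]
    have hdim : pb.dim = ℓ := by rw [← pb.finrank, hL]
    rw [hdim]
    simp [coeff_X_pow, hℓ.ne_zero.symm]
  have ha0 : a ≠ 0 := by
    rintro rfl
    exact (X_pow_sub_C_irreducible_iff_of_prime hℓ).1 hirr 0 (zero_pow hℓ.ne_zero)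
  obtain ⟨y, j, hy⟩ := hπ a ha0
  have hy0 : y ≠ 0 := fun h => ha0 (by rw [hy, h, zero_pow hℓ.ne_zero, zero_mul])
  have hj : j.Coprime ℓ := (hℓ.coprime_iff_not_dvd.2 (by
    rintro ⟨k, rfl⟩
    exact (X_pow_sub_C_irreducible_iff_of_prime hℓ).1 hirr (y * π ^ k) (by
      rw [hy, mul_pow, ← pow_mul, mul_comm k ℓ]))).symm
  intro x
  rcases eq_or_ne x 0 with rfl | hx
  · exact ⟨0, Algebra.norm_zero⟩
  obtain ⟨z, i, rfl⟩ := hπ x hx
  obtain ⟨t, -, ht⟩ := Nat.exists_mul_mod_eq_one_of_coprime hj hℓ.one_lt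
  -- `π ^ i = (π ^ j) ^ (t * i) / (π ^ ((j * t / ℓ) * i)) ^ ℓ`
  have key : j * t * i = i + ℓ * (j * t / ℓ * i) := by
    conv_lhs => rw [← Nat.mod_add_div (j * t) ℓ, ht]
    ring
  have hπ0 : π ^ j ≠ 0 := fun h => ha0 (by rw [hy, h, mul_zero])
  have hc0 : c ≠ 0 := fun h => by rw [h, zero_pow hℓ.ne_zero] at hc; exact one_ne_zero (neg_eq_zero.1 hc.symm)
  have hπa : π ≠ 0 ∨ j = 0 := by
    by_contra h
    push Not at h
    exact hπ0 (by rw [h.1, zero_pow h.2])
  rcases hπa with hπ1 | rfl
  · refine ⟨α ^ (t * i) * algebraMap E L (z * (c ^ (ℓ + 1) * y) ⁻¹ ^ (t * i) * (π ^ (j * t / ℓ * i))⁻¹), ?_⟩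
    rw [map_mul, map_pow, hN, Algebra.norm_algebraMap, hL]
    have h2 : (-1 : E) ^ ℓ * -a = (c ^ (ℓ + 1) * y) ^ ℓ * π ^ j := by
      rw [hy, mul_pow, ← pow_mul, mul_comm (ℓ + 1) ℓ, pow_mul, hc]
      ring
    rw [h2]
    have hb0 : c ^ (ℓ + 1) * y ≠ 0 := mul_ne_zero (pow_ne_zero _ hc0) hy0
    generalize c ^ (ℓ + 1) * y = b at hb0 ⊢
    rw [mul_pow, ← pow_mul π j (t * i), show j * (t * i) = i + ℓ * (j * t / ℓ * i) by rw [← mul_assoc, key],
      pow_add, mul_comm ℓ, pow_mul π (j * t / ℓ * i) ℓ]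
    generalize t * i = k
    have hP : π ^ (j * t / ℓ * i) ≠ 0 := pow_ne_zero _ hπ1
    generalize π ^ (j * t / ℓ * i) = P at hP ⊢
    rw [mul_pow, mul_pow, ← pow_mul b⁻¹ k ℓ, ← pow_mul b ℓ k, mul_comm ℓ k, inv_pow, inv_pow]
    field_simp
  · exact absurd hj (by simp [hℓ.ne_one])

section ext

variable (A K : Type u) [CommRing A] [IsDomain A] [IsNoetherianRing A] [HenselianLocalRing A]
  [IsSepClosed (ResidueField A)] [Field K] [Algebra A K] [IsFractionRing A K]

/-- finite separable extensions of the fraction field of a one dimensional strictly henselian domain -/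
theorem good_of_dim_one (hdim : ringKrullDim A = 1) {ℓ : ℕ} (hℓ : ℓ.Prime) (hℓA : IsUnit (ℓ : A))
    (E : Type u) [Field E] [Algebra K E] [FiniteDimensional K E] [Algebra.IsSeparable K E] : Good ℓ E := by
  haveI : Ring.KrullDimLE 1 A := KrullAki.krullDimLE_one_of_dim_eq_one hdim
  -- the normalization
  let A₀ : Subring K := (algebraMap A K).range
  let e₀ : A ≃+* A₀ := RingEquiv.ofBijective (algebraMap A K).rangeRestrict
    ⟨fun a b h => IsFractionRing.injective A K (congrArg Subtype.val h), (algebraMap A K).rangeRestrict_surjective⟩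
  haveI : IsNoetherianRing A₀ := isNoetherianRing_of_ringEquiv A e₀
  haveI : Ring.KrullDimLE 1 A₀ := KrullAki.krullDimLE_one_of_dim_eq_one
    ((ringKrullDim_eq_of_ringEquiv e₀).symm.trans hdim)
  haveI : IsFractionRing A₀ K := IsFractionRing.of_field _ _ fun z => by
    obtain ⟨a, b, -, hab⟩ := IsFractionRing.div_surjective A z
    exact ⟨e₀ a, e₀ b, hab.symm⟩
  let R := integralClosure A₀ K
  letI : Algebra A A₀ := e₀.toRingHom.toAlgebra
  haveI : IsScalarTower A A₀ K := .of_algebraMap_eq fun a => rfl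
  haveI : IsFractionRing R K := KrullAki.isFractionRing_subalgebra _
  haveI : IsDedekindDomain R := KrullAki.isDedekindDomain_integralClosure A₀
  let S := integralClosure R E
  haveI : IsFractionRing S E := integralClosure.isFractionRing_of_finite_extension K E
  haveI : IsDedekindDomain S := integralClosure.isDedekindDomain R K E
  haveI : Algebra.IsIntegral A A₀ := ⟨fun a => by
    obtain ⟨b, rfl⟩ := e₀.surjective a
    exact isIntegral_algebraMap⟩
  letI : Algebra A S := ((algebraMap R S).comp ((algebraMap A₀ R).comp (algebraMap A A₀))).toAlgebra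
  letI : Algebra A R := ((algebraMap A₀ R).comp (algebraMap A A₀)).toAlgebra
  haveI : IsScalarTower A A₀ R := .of_algebraMap_eq' rfl
  haveI : IsScalarTower A R S := .of_algebraMap_eq' rfl
  haveI : Algebra.IsIntegral A R := Algebra.IsIntegral.trans A₀
  haveI : Algebra.IsIntegral A S := Algebra.IsIntegral.trans R
  haveI : IsLocalRing S := Hensel.isLocalRing_of_isIntegral_domain A S
  haveI : IsLocalHom (algebraMap A S) := Hensel.isLocalHom_of_isIntegral_local A S
  haveI : HenselianLocalRing S := Hensel.henselianLocalRing_of_isIntegral_local A S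
  haveI : IsSepClosed (ResidueField S) := (Hensel.residueField_of_isIntegral A S).1
  have hinj : Function.Injective (algebraMap A S) :=
    (show Function.Injective (algebraMap R S) from fun a b h =>
      Subtype.ext ((algebraMap K E).injective (congrArg Subtype.val h))).comp
      ((show Function.Injective (algebraMap A₀ R) from fun a b h => Subtype.ext (congrArg Subtype.val h :)).comp e₀.injective)
  have hS : ¬ IsField S := fun h => by
    have hA : ¬ IsField A := fun hA => by
      rw [ringKrullDim_eq_zero_of_isField hA] at hdim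
      exact zero_ne_one hdim
    exact hA (isField_of_isIntegral_of_isField (R := A) (S := ↥S) hinj h)
  haveI : IsPrincipalIdealRing S := @IsPrincipalIdealRing.of_finite_maximals ↥S _ _
    ((Set.finite_singleton (maximalIdeal S)).subset (t := {I : Ideal S | I.IsMaximal}) fun _ hI => IsLocalRing.eq_maximalIdeal hI)
  haveI : IsDiscreteValuationRing S :=
    { not_a_field' := fun h => hS (IsLocalRing.isField_iff_maximalIdeal_eq.2 h) }
  exact good_of_dvr S E hℓ (by simpa using hℓA.map (algebraMap A S))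

end ext

end Groth.Agent.EtDvrCd
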