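import Groth.Agent.CurveCd.Tower
import Groth.Agent.CurveCd.FieldKummer
import Groth.Agent.EtDvrCd.Good

/-!
# Cohomology of the multiplicative group in degrees one and two, one prime at a time
-/

set_option autoImplicit false
set_option linter.unusedSectionVars false
set_option linter.style.haveILetI false
set_option backward.isDefEq.respectTransparency false
set_option backward.isDefEq.respectTransparency.types false

universe u

open CategoryTheory CategoryTheory.Limits AlgebraicGeometry Opposite Abelian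

noncomputable section

namespace Groth.Agent.EtDvrCd

open CurveCd

variable {X : Scheme.{u}}

/-- classes killed by a cyclic extension of degree `l` vanish -/
def Cyc (F : EtCoh.Ab X) (q l : ℕ) : Prop :=
  ∀ (E L : Type u) [Field E] [Field L] [Algebra E L] [FiniteDimensional E L] [IsGalois E L]
    (e : Spec (CommRingCat.of E) ⟶ X) [Etale e] [Etale (extHom e L)], Nat.card Gal(L/E) = l →
    ∀ x : Ext (free (pt e)) F q, (Ext.mk₀ (fmap (covMap (L := L) e))).comp x (zero_add q) = 0 → x = 0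

theorem eq_zero_of_pGroup {F : EtCoh.Ab X} {q : ℕ} {l : ℕ} (hl : l.Prime) (hcyc : Cyc F q l) (k : ℕ) :
    ∀ (E L : Type u) [Field E] [Field L] [Algebra E L] [FiniteDimensional E L] [IsGalois E L]
      (e : Spec (CommRingCat.of E) ⟶ X) [Etale e] [Etale (extHom e L)], Nat.card Gal(L/E) = l ^ k →
      ∀ x : Ext (free (pt e)) F q, (Ext.mk₀ (fmap (covMap (L := L) e))).comp x (zero_add q) = 0 → x = 0 := by
  haveI := Fact.mk hl
  induction k with
  | zero =>
    intro E L _ _ _ _ _ e _ _ hcard x hx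
    rw [pow_zero] at hcard
    have hrk : Module.finrank E L = 1 := (IsGalois.card_aut_eq_finrank E L).symm.trans hcard
    have hbij : Function.Bijective (algebraMap E L) :=
      ⟨(algebraMap E L).injective, fun y => by
        obtain ⟨c, hc⟩ := (finrank_eq_one_iff_of_nonzero' (1 : L) one_ne_zero).1 hrk y
        exact ⟨c, (Algebra.algebraMap_eq_smul_one c).trans hc⟩⟩
    let ε := RingEquiv.ofBijective (algebraMap E L) hbij
    have hε : (ε.symm : L →+* E).comp (algebraMap E L) = RingHom.id E := RingHom.ext fun r => ε.symm_apply_apply r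
    let b : pt e ⟶ pt (extHom e L) := ptMap (ε.symm : L →+* E) (by
      show Spec.map _ ≫ Spec.map (CommRingCat.ofHom (algebraMap E L)) ≫ e = e
      rw [← Category.assoc, ← Spec.map_comp, ← CommRingCat.ofHom_comp, hε, CommRingCat.ofHom_id, Spec.map_id,
        Category.id_comp])
    have hb : b ≫ covMap e = 𝟙 (pt e) := MorphismProperty.Over.Hom.ext (by
      show Spec.map _ ≫ Spec.map (CommRingCat.ofHom (algebraMap E L)) = 𝟙 _
      rw [← Spec.map_comp, ← CommRingCat.ofHom_comp, hε, CommRingCat.ofHom_id, Spec.map_id])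
    have h := congrArg (fun y => (Ext.mk₀ (fmap b)).comp y (zero_add q)) hx
    rw [Ext.mk₀_comp_mk₀_assoc, ← fmap_comp, hb, fmap_id, Ext.mk₀_id_comp, Ext.comp_zero] at h
    exact h
  | succ k ih =>
    intro E L _ _ _ _ _ e _ _ hcard x hx
    obtain ⟨N, hN⟩ := Sylow.exists_subgroup_card_pow_prime l (n := k) (G := Gal(L/E))
      (by rw [hcard]; exact pow_dvd_pow l (Nat.le_succ k))
    have hidx : N.index = l := by
      have := N.card_mul_index
      rw [hN, hcard, pow_succ] at this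
      exact Nat.eq_of_mul_eq_mul_left (pow_pos hl.pos k) this
    haveI : N.Normal := Subgroup.normal_of_index_eq_minFac_card (by
      rw [hidx, hcard, Nat.Prime.pow_minFac hl (Nat.succ_ne_zero k)])
    let E1 := IntermediateField.fixedField N
    haveI : IsGalois E E1 := IsGalois.of_fixedField_normal_subgroup N
    haveI : Etale (extHom e E1) := etale_extHom e
    haveI : Etale (extHom (extHom e E1) L) := etale_extHom _
    have hc1 : Nat.card Gal(L/E1) = l ^ k := by
      rw [IsGalois.card_aut_eq_finrank, IntermediateField.finrank_fixedField_eq_card, hN]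
    have hc2 : Nat.card Gal(E1/E) = l := by
      have h1 : Module.finrank E1 L = l ^ k := by rw [IntermediateField.finrank_fixedField_eq_card, hN]
      have h2 := Module.finrank_mul_finrank E E1 L
      rw [h1, ← IsGalois.card_aut_eq_finrank E L, hcard, pow_succ'] at h2
      rw [IsGalois.card_aut_eq_finrank, Nat.eq_of_mul_eq_mul_right (pow_pos hl.pos k) h2]
    refine hcyc E E1 e hc2 x (ih E1 L (extHom e E1) hc1 _ ?_)
    let t : pt (extHom (extHom e E1) L) ⟶ pt (extHom e L) := ptMap (RingHom.id L) (by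
      show Spec.map _ ≫ Spec.map (CommRingCat.ofHom (algebraMap E L)) ≫ e =
        Spec.map _ ≫ Spec.map (CommRingCat.ofHom (algebraMap E E1)) ≫ e
      rw [CommRingCat.ofHom_id, Spec.map_id, Category.id_comp, ← Category.assoc, ← Spec.map_comp,
        ← CommRingCat.ofHom_comp, ← IsScalarTower.algebraMap_eq])
    have ht : covMap (L := L) (extHom e E1) ≫ covMap (L := E1) e = t ≫ covMap (L := L) e :=
      MorphismProperty.Over.Hom.ext (by
        show Spec.map _ ≫ Spec.map (CommRingCat.ofHom (algebraMap E E1)) =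
          Spec.map (CommRingCat.ofHom (RingHom.id L)) ≫ Spec.map (CommRingCat.ofHom (algebraMap E L))
        rw [CommRingCat.ofHom_id, Spec.map_id, Category.id_comp, ← Spec.map_comp, ← CommRingCat.ofHom_comp,
          ← IsScalarTower.algebraMap_eq])
    rw [Ext.mk₀_comp_mk₀_assoc, ← fmap_comp, ht, fmap_comp, ← Ext.mk₀_comp_mk₀_assoc, hx, Ext.comp_zero]

theorem exists_nsmul_eq_zero {F : EtCoh.Ab X} {r : ℕ} {l : ℕ} (hl : l.Prime) (hcyc : Cyc F (r + 1) l)
    {E : Type u} [Field E] (e : Spec (CommRingCat.of E) ⟶ X) [Etale e] (x : Ext (free (pt e)) F (r + 1)) :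
    ∃ m, ¬ l ∣ m ∧ m • x = 0 := by
  obtain ⟨V, g, v, -, hx⟩ := exists_efface r F (pt e) x (default : Spec (CommRingCat.of E))
  obtain ⟨L, _, _, _, _, _, a, ha⟩ := exists_galois_lift e g v
  have hL : (Ext.mk₀ (fmap (covMap (L := L) e))).comp x (zero_add (r + 1)) = 0 := by
    rw [← ha, fmap_comp, ← Ext.mk₀_comp_mk₀_assoc, hx, Ext.comp_zero]
  haveI := Fact.mk hl
  let P : Sylow l Gal(L/E) := Classical.arbitrary _
  let E1 := IntermediateField.fixedField (P : Subgroup Gal(L/E))
  haveI : Etale (extHom e E1) := etale_extHom e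
  haveI : Etale (extHom (extHom e E1) L) := etale_extHom _
  obtain ⟨k, hk⟩ := IsPGroup.iff_card.1 P.isPGroup'
  refine ⟨(P : Subgroup Gal(L/E)).index, P.not_dvd_index, nsmul_index_eq_zero e _ x ?_⟩
  refine eq_zero_of_pGroup hl hcyc k E1 L (extHom e E1)
    (by rw [IsGalois.card_aut_eq_finrank, IntermediateField.finrank_fixedField_eq_card, hk]) _ ?_
  let t : pt (extHom (extHom e E1) L) ⟶ pt (extHom e L) := ptMap (RingHom.id L) (by
    show Spec.map _ ≫ Spec.map (CommRingCat.ofHom (algebraMap E L)) ≫ e =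
      Spec.map _ ≫ Spec.map (CommRingCat.ofHom (algebraMap E E1)) ≫ e
    rw [CommRingCat.ofHom_id, Spec.map_id, Category.id_comp, ← Category.assoc, ← Spec.map_comp,
      ← CommRingCat.ofHom_comp, ← IsScalarTower.algebraMap_eq])
  have ht : covMap (L := L) (extHom e E1) ≫ covMap (L := E1) e = t ≫ covMap (L := L) e :=
    MorphismProperty.Over.Hom.ext (by
      show Spec.map _ ≫ Spec.map (CommRingCat.ofHom (algebraMap E E1)) =
        Spec.map (CommRingCat.ofHom (RingHom.id L)) ≫ Spec.map (CommRingCat.ofHom (algebraMap E L))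
      rw [CommRingCat.ofHom_id, Spec.map_id, Category.id_comp, ← Spec.map_comp, ← CommRingCat.ofHom_comp,
        ← IsScalarTower.algebraMap_eq])
  rw [Ext.mk₀_comp_mk₀_assoc, ← fmap_comp, ht, fmap_comp, ← Ext.mk₀_comp_mk₀_assoc, hL, Ext.comp_zero]

/-- in degree one only Hilbert 90 is needed -/
theorem eq_zero_of_comp_eq_zero_one {V W : X.Etale} {g : V ⟶ W} {σ : V ⟶ V} {l : ℕ} (hc : IsCyclicCover g σ l)
    (F : EtCoh.Ab X) (h90 : H90 σ l F) (x : Ext (free W) F 1)
    (hx : (Ext.mk₀ (fmap g)).comp x (zero_add 1) = 0) : x = 0 := by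
  haveI := epi_fmap g hc.surj
  haveI := hc.mono_tr
  let d : cokernel hc.tr ⟶ free V := cokernel.desc _ (fmap σ - 𝟙 (free V)) hc.tr_comp_sub
  have hd : cokernel.π hc.tr ≫ d = fmap σ - 𝟙 (free V) := cokernel.π_desc _ _ _
  let S₂ : ShortComplex (EtCoh.Ab X) := ShortComplex.mk d (fmap g) (by
    rw [← cancel_epi (cokernel.π hc.tr), ← Category.assoc, hd, hc.fmap_sub_comp, comp_zero])
  let χ : ShortComplex.mk (fmap σ - 𝟙 (free V)) (fmap g) hc.fmap_sub_comp ⟶ S₂ :=
    { τ₁ := cokernel.π hc.tr, τ₂ := 𝟙 _, τ₃ := 𝟙 _,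
      comm₁₂ := hd.trans (Category.comp_id _).symm,
      comm₂₃ := (Category.id_comp _).trans (Category.comp_id _).symm }
  haveI : Epi χ.τ₁ := inferInstanceAs (Epi (cokernel.π hc.tr))
  haveI : IsIso χ.τ₂ := inferInstanceAs (IsIso (𝟙 _))
  haveI : Mono χ.τ₃ := inferInstanceAs (Mono (𝟙 _))
  have hS₂ : S₂.ShortExact :=
    { exact := (ShortComplex.exact_iff_of_epi_of_isIso_of_mono χ).1 hc.exact_right
      mono_f := hc.exact_left.mono_cokernelDesc
      epi_g := inferInstanceAs (Epi (fmap g)) }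
  obtain ⟨y, rfl⟩ := Ext.contravariant_sequence_exact₃ hS₂ F x hx (n₀ := 0) (add_comm 1 0)
  obtain ⟨y, rfl⟩ := (Ext.mk₀_bijective _ _).2 y
  let f : free V ⟶ F := cokernel.π hc.tr ≫ y
  have hf : sumPow σ l ≫ f = 0 := by
    rw [← hc.fmap_tr, Category.assoc, show hc.tr ≫ f = 0 by rw [← Category.assoc, cokernel.condition, zero_comp],
      comp_zero]
  obtain ⟨ψ, hψ⟩ := h90 f hf
  have hy : y = d ≫ ψ := (cancel_epi (cokernel.π hc.tr)).1 (by rw [← Category.assoc, hd, hψ])
  rw [hy, ← Ext.mk₀_comp_mk₀]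
  exact hS₂.extClass_comp_assoc _

theorem cyc_Gm_one {l : ℕ} (hl : l.Prime) : Cyc (EtCoh.Gm X) 1 l := by
  intro E L _ _ _ _ _ e _ _ hc x hx
  haveI := Fact.mk hl
  haveI : IsCyclic Gal(L/E) := isCyclic_of_prime_card hc
  obtain ⟨σ, hσ⟩ := IsCyclic.exists_generator (α := Gal(L/E))
  exact eq_zero_of_comp_eq_zero_one (isCyclicCover e σ hσ) _ (h90_Gm e σ hσ) x hx

/-- Hilbert 90 -/
theorem subsingleton_ext_Gm_one {E : Type u} [Field E] (e : Spec (CommRingCat.of E) ⟶ X) [Etale e] :
    Subsingleton (Ext (free (pt e)) (EtCoh.Gm X) 1) := by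
  refine subsingleton_of_forall_eq 0 fun x => ?_
  by_contra hx
  by_cases hd : addOrderOf x = 1
  · exact hx (AddMonoid.addOrderOf_eq_one_iff.1 hd)
  obtain ⟨l, hl, hld⟩ := Nat.exists_prime_and_dvd hd
  obtain ⟨m, hm, hmx⟩ := exists_nsmul_eq_zero hl (cyc_Gm_one hl) e x
  exact hm (hld.trans (addOrderOf_dvd_of_nsmul_eq_zero hmx))

theorem cyc_Gm_two {l : ℕ} (hl : l.Prime)
    (hgood : ∀ (E : Type u) [Field E] (e : Spec (CommRingCat.of E) ⟶ X) [Etale e], Good l E) :
    Cyc (EtCoh.Gm X) 2 l := by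
  intro E L _ _ _ _ _ e _ _ hc x hx
  haveI := Fact.mk hl
  haveI : IsCyclic Gal(L/E) := isCyclic_of_prime_card hc
  obtain ⟨σ, hσ⟩ := IsCyclic.exists_generator (α := Gal(L/E))
  refine (isCyclicCover e σ hσ).eq_zero_of_comp_eq_zero _ (h90_Gm e σ hσ)
    (nsurj_Gm e σ (norm_surjective hl (hgood E e) L ((IsGalois.card_aut_eq_finrank E L).symm.trans hc)) hσ) 2
    (fun n h1 h2 => ?_) (fun n h1 h2 => ?_) x (by norm_num) hx
  · obtain rfl : n = 1 := by omega
    exact subsingleton_ext_Gm_one (extHom e L)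
  · obtain rfl : n = 1 := by omega
    exact subsingleton_ext_Gm_one e

theorem eq_zero_of_pow_nsmul_two {l : ℕ} (hl : l.Prime)
    (hgood : ∀ (E : Type u) [Field E] (e : Spec (CommRingCat.of E) ⟶ X) [Etale e], Good l E)
    {E : Type u} [Field E] (e : Spec (CommRingCat.of E) ⟶ X) [Etale e] (x : Ext (free (pt e)) (EtCoh.Gm X) 2)
    {a : ℕ} (ha : l ^ a • x = 0) : x = 0 := by
  obtain ⟨m, hm, hmx⟩ := exists_nsmul_eq_zero hl (cyc_Gm_two hl hgood) e x
  have h := Nat.dvd_gcd (addOrderOf_dvd_of_nsmul_eq_zero ha) (addOrderOf_dvd_of_nsmul_eq_zero hmx)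
  rw [((hl.coprime_iff_not_dvd.2 hm).pow_left a).gcd_eq_one, Nat.dvd_one] at h
  exact AddMonoid.addOrderOf_eq_one_iff.1 h

end Groth.Agent.EtDvrCd
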