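import Groth.Agent.EtDvrCd.Nb
import Groth.Agent.EtDvrCd.Tower

/-!
# Neighbourhoods of the closed point and their generic fibres
-/

set_option autoImplicit false
set_option linter.style.haveILetI false
set_option backward.isDefEq.respectTransparency false
set_option backward.isDefEq.respectTransparency.types false

universe u

open CategoryTheory CategoryTheory.Limits AlgebraicGeometry Opposite IsLocalRing

noncomputable section

namespace Groth.Agent.EtDvrCd

open CurveCd

variable (A K : Type u) [CommRing A] [IsDomain A] [IsDiscreteValuationRing A] [Field K] [Algebra A K]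
  [IsFractionRing A K] {Ω : Type u} [Field Ω] [Algebra A Ω] [IsSepClosed Ω]

/-- the trait -/
abbrev Tr : Scheme.{u} := Spec (CommRingCat.of A)

/-- the generic point -/
abbrev gen : Spec (CommRingCat.of K) ⟶ Tr A := Spec.map (CommRingCat.ofHom (algebraMap A K))

/-- the geometric point -/
abbrev gpt (Ω : Type u) [Field Ω] [Algebra A Ω] : Spec (CommRingCat.of Ω) ⟶ Tr A :=
  Spec.map (CommRingCat.ofHom (algebraMap A Ω))

variable {A}

theorem etale_hom (N : Nb A Ω) : AlgebraicGeometry.Etale (Spec.map (CommRingCat.ofHom (algebraMap A N.B))) :=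
  (HasRingHomProperty.Spec_iff (P := @AlgebraicGeometry.Etale)).2 (RingHom.etale_algebraMap.2 N.etale)

/-- the neighbourhood as an object of the site -/
def obj (N : Nb A Ω) : (Tr A).Etale :=
  haveI := etale_hom N
  Scheme.Etale.mk (Spec.map (CommRingCat.ofHom (algebraMap A N.B)))

/-- its geometric point -/
def pnt (N : Nb A Ω) : Pts (gpt A Ω) (obj N) :=
  CategoryTheory.Over.homMk (Spec.map (CommRingCat.ofHom N.z.toRingHom)) (by
    show Spec.map _ ≫ Spec.map (CommRingCat.ofHom (algebraMap A N.B)) = _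
    rw [← Spec.map_comp, ← CommRingCat.ofHom_comp, AlgHom.toRingHom_eq_coe, AlgHom.comp_algebraMap]
    rfl)

/-- maps of neighbourhoods -/
def hom {N M : Nb A Ω} (f : N.B →ₐ[A] M.B) : obj M ⟶ obj N :=
  MorphismProperty.Over.homMk (Spec.map (CommRingCat.ofHom f.toRingHom)) (by
    show Spec.map _ ≫ Spec.map (CommRingCat.ofHom (algebraMap A N.B)) = Spec.map (CommRingCat.ofHom (algebraMap A M.B))
    rw [← Spec.map_comp, ← CommRingCat.ofHom_comp, AlgHom.toRingHom_eq_coe, AlgHom.comp_algebraMap]) trivial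

theorem hom_pnt {N M : Nb A Ω} (f : N.B →ₐ[A] M.B) (h : M.z.comp f = N.z) :
    fib (hom f) (gpt A Ω) (pnt M) = pnt N :=
  CategoryTheory.Over.OverMorphism.ext (by
    show Spec.map (CommRingCat.ofHom M.z.toRingHom) ≫ Spec.map (CommRingCat.ofHom f.toRingHom) =
      Spec.map (CommRingCat.ofHom N.z.toRingHom)
    rw [← Spec.map_comp, ← CommRingCat.ofHom_comp, ← h]
    rfl)

/-- every neighbourhood is refined by a valuation ring -/
theorem exists_refine (hz : maximalIdeal A ≤ RingHom.ker (algebraMap A Ω)) (W : (Tr A).Etale) (z : Pts (gpt A Ω) W) :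
    ∃ (N : Nb A Ω) (h : obj N ⟶ W), fib h (gpt A Ω) (pnt N) = z := by
  let zl : Spec (CommRingCat.of Ω) ⟶ W.left := z.left
  obtain ⟨O, hO, hw, -⟩ := exists_isAffineOpen_mem_and_subset (U := (⊤ : W.left.Opens)) (x := zl default) trivial
  have hlO : Set.range zl ⊆ O := by
    rintro _ ⟨y, rfl⟩
    rw [Subsingleton.elim y default]
    exact hw
  let f0 : Spec Γ(W.left, O) ⟶ Tr A := hO.isoSpec.inv ≫ O.ι ≫ W.hom
  let h := Spec.preimage f0
  let χ := Spec.preimage (IsOpenImmersion.lift O.ι zl (by rwa [Scheme.Opens.range_ι]) ≫ hO.isoSpec.hom)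
  have hfac : Spec.map χ ≫ hO.isoSpec.inv ≫ O.ι = zl := by
    rw [Spec.map_preimage, Category.assoc, Iso.hom_inv_id_assoc, IsOpenImmersion.lift_fac]
  have hχh : h ≫ χ = CommRingCat.ofHom (algebraMap A Ω) := Spec.map_injective (by
    rw [Spec.map_comp]
    show Spec.map χ ≫ Spec.map h = _
    rw [show Spec.map h = f0 from Spec.map_preimage f0]
    show Spec.map χ ≫ hO.isoSpec.inv ≫ O.ι ≫ W.hom = _
    rw [← Category.assoc hO.isoSpec.inv, ← Category.assoc, hfac]
    exact CategoryTheory.Over.w z)
  haveI : AlgebraicGeometry.Etale W.hom := W.prop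
  haveI : AlgebraicGeometry.Etale (Spec.map h) := by rw [Spec.map_preimage]; infer_instance
  have het : h.hom.Etale := (HasRingHomProperty.Spec_iff (P := @AlgebraicGeometry.Etale)).1 inferInstance
  letI : Algebra A Γ(W.left, O) := h.hom.toAlgebra
  haveI : Algebra.Etale A Γ(W.left, O) := het
  obtain ⟨N, f, hf⟩ := exists_nb (Ω := Ω) Γ(W.left, O)
    { χ.hom with commutes' := fun r => ConcreteCategory.congr_hom hχh r } hz
  let m : Spec (CommRingCat.of N.B) ⟶ W.left := Spec.map (CommRingCat.ofHom f.toRingHom) ≫ hO.isoSpec.inv ≫ O.ι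
  have hm : m ≫ W.hom = Spec.map (CommRingCat.ofHom (algebraMap A N.B)) := by
    show (Spec.map _ ≫ hO.isoSpec.inv ≫ O.ι) ≫ W.hom = _
    rw [Category.assoc, Category.assoc]
    show Spec.map _ ≫ f0 = _
    rw [← Spec.map_preimage f0, ← Spec.map_comp]
    exact congrArg Spec.map (CommRingCat.hom_ext (RingHom.ext fun r => f.commutes r))
  refine ⟨N, MorphismProperty.Over.homMk m hm trivial, CategoryTheory.Over.OverMorphism.ext ?_⟩
  show Spec.map (CommRingCat.ofHom N.z.toRingHom) ≫ m = zl
  rw [← hfac]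
  show Spec.map _ ≫ Spec.map _ ≫ _ = _
  rw [← Category.assoc, ← Spec.map_comp]
  exact congrArg (fun g => Spec.map g ≫ hO.isoSpec.inv ≫ O.ι) (CommRingCat.hom_ext (RingHom.ext fun r =>
    AlgHom.congr_fun hf r))

/-- the generic field of a neighbourhood -/
abbrev fld (N : Nb A Ω) : Type u := FractionRing N.B

theorem unit_fld (N : Nb A Ω) (y : nonZeroDivisors A) : IsUnit (algebraMap A (fld N) y) := by
  refine isUnit_iff_ne_zero.2 fun h => nonZeroDivisors.ne_zero y.2 (N.inj ?_)
  rw [map_zero]
  exact IsFractionRing.injective N.B (fld N) ((IsScalarTower.algebraMap_apply A N.B (fld N) _).symm.trans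
    (h.trans (map_zero _).symm))

instance algFld (N : Nb A Ω) : Algebra K (fld N) :=
  (IsLocalization.lift (M := nonZeroDivisors A) (unit_fld N)).toAlgebra

instance towerFld (N : Nb A Ω) : IsScalarTower A K (fld N) :=
  .of_algebraMap_eq fun a => (IsLocalization.lift_eq (unit_fld N) a).symm

theorem isPushout (N : Nb A Ω) : Algebra.IsPushout A N.B K (fld N) := by
  obtain ⟨π, hπ⟩ := IsDiscreteValuationRing.exists_irreducible A
  haveI : IsLocalization (Algebra.algebraMapSubmonoid N.B (nonZeroDivisors A)) (fld N) := by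
    have hle : Algebra.algebraMapSubmonoid N.B (nonZeroDivisors A) ≤ nonZeroDivisors N.B := by
      rintro _ ⟨a, ha, rfl⟩
      exact mem_nonZeroDivisors_of_ne_zero fun h => nonZeroDivisors.ne_zero ha (N.inj (h.trans (map_zero _).symm))
    constructor
    constructor
    · rintro ⟨y, hy⟩
      exact IsLocalization.map_units (fld N) ⟨y, hle hy⟩
    · intro w
      obtain ⟨⟨a, b, hb⟩, hab⟩ := IsLocalization.surj (nonZeroDivisors N.B) w
      obtain ⟨n, v, hv⟩ := IsDiscreteValuationRing.eq_unit_mul_pow_irreducible (nonZeroDivisors.ne_zero hb)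
        (N.irreducible hπ)
      refine ⟨⟨a * ↑v⁻¹, ⟨algebraMap A N.B π ^ n, π ^ n, pow_mem (mem_nonZeroDivisors_of_ne_zero hπ.ne_zero) n, map_pow _ _ _⟩⟩, ?_⟩
      show w * algebraMap N.B (fld N) (algebraMap A N.B π ^ n) = algebraMap N.B (fld N) (a * ↑v⁻¹)
      rw [map_mul, ← hab, mul_assoc, ← map_mul]
      show _ = w * algebraMap N.B (fld N) (b * ↑v⁻¹)
      rw [hv, mul_comm (v : N.B), mul_assoc, Units.mul_inv, mul_one]
    · intro x y h
      exact ⟨1, by rw [IsFractionRing.injective N.B (fld N) h]⟩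
  exact Algebra.isPushout_of_isLocalization (nonZeroDivisors A) _ _ _

/-- the structure map of the generic field -/
abbrev eN (N : Nb A Ω) : Spec (CommRingCat.of (fld N)) ⟶ Spec (CommRingCat.of K) :=
  Spec.map (CommRingCat.ofHom (algebraMap K (fld N)))

theorem isPullback (N : Nb A Ω) :
    IsPullback (Spec.map (CommRingCat.ofHom (algebraMap N.B (fld N)))) (eN K N)
      (Spec.map (CommRingCat.ofHom (algebraMap A N.B))) (gen A K) := by
  haveI := isPushout K N
  exact isPullback_SpecMap_of_isPushout _ _ _ _ (CommRingCat.isPushout_of_isPushout A N.B K (fld N))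

instance etale_eN (N : Nb A Ω) : AlgebraicGeometry.Etale (eN K N) :=
  MorphismProperty.of_isPullback (isPullback K N) (etale_hom N)

/-- the generic fibre of a neighbourhood -/
def kap (N : Nb A Ω) : pt (eN K N) ⟶ (EtCoh.bc (gen A K)).obj (obj N) :=
  MorphismProperty.Over.homMk (pullback.lift (Spec.map (CommRingCat.ofHom (algebraMap N.B (fld N)))) (eN K N)
    (isPullback K N).w) (pullback.lift_snd _ _ _) trivial

instance isIso_kap (N : Nb A Ω) : IsIso (kap K N) := by
  have h : IsIso (kap K N).left := by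
    show IsIso (pullback.lift (Spec.map (CommRingCat.ofHom (algebraMap N.B (fld N)))) (eN K N) (isPullback K N).w)
    convert! (inferInstance : IsIso (isPullback K N).isoPullback.hom) using 1
  haveI := h
  rw [show kap K N = (MorphismProperty.Over.isoMk (asIso (kap K N).left) (MorphismProperty.Over.w (kap K N))).hom from
    MorphismProperty.Over.Hom.ext rfl]
  infer_instance

/-- the map of generic fields -/
def fldMap {N M : Nb A Ω} (f : N.B →ₐ[A] M.B) (hf : Function.Injective f) : fld N →+* fld M :=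
  IsFractionRing.lift (g := (algebraMap M.B (fld M)).comp f.toRingHom) ((IsFractionRing.injective M.B (fld M)).comp hf)

theorem fldMap_algebraMap {N M : Nb A Ω} (f : N.B →ₐ[A] M.B) (hf : Function.Injective f) (b : N.B) :
    fldMap f hf (algebraMap N.B (fld N) b) = algebraMap M.B (fld M) (f b) :=
  IsFractionRing.lift_algebraMap _ b

theorem fldMap_comp {N M : Nb A Ω} (f : N.B →ₐ[A] M.B) (hf : Function.Injective f) :
    (fldMap f hf).comp (algebraMap K (fld N)) = algebraMap K (fld M) :=
  IsLocalization.ringHom_ext (nonZeroDivisors A) (RingHom.ext fun a => by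
    simp only [RingHom.comp_apply, ← IsScalarTower.algebraMap_apply A K]
    rw [IsScalarTower.algebraMap_apply A N.B (fld N), fldMap_algebraMap, AlgHom.commutes,
      ← IsScalarTower.algebraMap_apply])

theorem kap_naturality {N M : Nb A Ω} (f : N.B →ₐ[A] M.B) (hf : Function.Injective f)
    (h : Spec.map (CommRingCat.ofHom (fldMap f hf)) ≫ eN K N = eN K M) :
    kap K M ≫ (EtCoh.bc (gen A K)).map (hom f) = ptMap (fldMap f hf) h ≫ kap K N := by
  refine MorphismProperty.Over.Hom.ext (pullback.hom_ext ?_ ?_)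
  · show (pullback.lift _ _ _ ≫ pullback.lift (pullback.fst _ _ ≫ (hom f).left) (pullback.snd _ _) _) ≫ pullback.fst _ _ =
      (Spec.map (CommRingCat.ofHom (fldMap f hf)) ≫ pullback.lift _ _ _) ≫ pullback.fst _ _
    rw [Category.assoc, Category.assoc]
    erw [pullback.lift_fst, pullback.lift_fst]
    rw [← Category.assoc]
    erw [pullback.lift_fst]
    show Spec.map _ ≫ Spec.map (CommRingCat.ofHom f.toRingHom) = Spec.map _ ≫ Spec.map _
    rw [← Spec.map_comp, ← Spec.map_comp]
    exact congrArg Spec.map (CommRingCat.hom_ext (RingHom.ext fun b => (fldMap_algebraMap f hf b).symm))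
  · show (pullback.lift _ _ _ ≫ pullback.lift (pullback.fst _ _ ≫ (hom f).left) (pullback.snd _ _) _) ≫ pullback.snd _ _ =
      (Spec.map (CommRingCat.ofHom (fldMap f hf)) ≫ pullback.lift _ _ _) ≫ pullback.snd _ _
    rw [Category.assoc, Category.assoc]
    erw [pullback.lift_snd, pullback.lift_snd, pullback.lift_snd]
    exact h.symm

theorem injective_hom {N M : Nb A Ω} (f : N.B →ₐ[A] M.B) : Function.Injective f := by
  obtain ⟨π, hπ⟩ := IsDiscreteValuationRing.exists_irreducible A
  rw [injective_iff_map_eq_zero]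
  intro b hb
  by_contra hb0
  obtain ⟨n, v, rfl⟩ := IsDiscreteValuationRing.eq_unit_mul_pow_irreducible hb0 (N.irreducible hπ)
  rw [map_mul, map_pow, AlgHom.commutes, mul_eq_zero] at hb
  rcases hb with h | h
  · exact (v.isUnit.map f).ne_zero h
  · exact (M.irreducible hπ).ne_zero (eq_zero_of_pow_eq_zero h)

end Groth.Agent.EtDvrCd
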