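import Groth.Agent.EtDvrCd.Tower
import Groth.Agent.FieldCd.DimOne

/-!
# The Kummer sequence inside an injective presentation
-/

set_option autoImplicit false
set_option linter.style.haveILetI false
set_option backward.isDefEq.respectTransparency false
set_option backward.isDefEq.respectTransparency.types false

universe u

open CategoryTheory CategoryTheory.Limits AlgebraicGeometry Opposite Abelian

noncomputable section

namespace Groth.Agent.EtDvrCd

open CurveCd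

variable (P : Scheme.{u}) (ℓ : ℕ)

/-- the Kummer complex -/
abbrev SK : ShortComplex (EtCoh.Ab P) :=
  ShortComplex.mk (kernel.ι (EtCoh.powMap P ℓ)) (EtCoh.powMap P ℓ) (kernel.condition _)

/-- the injective presentation -/
abbrev SI : ShortComplex (EtCoh.Ab P) :=
  ShortComplex.mk (Injective.ι (EtCoh.mu P ℓ)) (cokernel.π (Injective.ι (EtCoh.mu P ℓ))) (cokernel.condition _)

theorem shortExact_SI : (SI P ℓ).ShortExact :=
  { exact := ShortComplex.exact_of_g_is_cokernel _ (cokernelIsCokernel _)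
    mono_f := inferInstanceAs (Mono (Injective.ι (EtCoh.mu P ℓ)))
    epi_g := inferInstanceAs (Epi (cokernel.π (Injective.ι (EtCoh.mu P ℓ)))) }

variable [Epi (EtCoh.powMap P ℓ)]

theorem shortExact_SK : (SK P ℓ).ShortExact := { exact := ShortComplex.exact_of_f_is_kernel _ (kernelIsKernel _) }

/-- the extension of the inclusion of `μ` to the multiplicative group -/
def mapA : EtCoh.Gm P ⟶ Injective.under (EtCoh.mu P ℓ) :=
  Injective.factorThru (Injective.ι (EtCoh.mu P ℓ)) (kernel.ι (EtCoh.powMap P ℓ))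

theorem ι_mapA : kernel.ι (EtCoh.powMap P ℓ) ≫ mapA P ℓ = Injective.ι (EtCoh.mu P ℓ) :=
  Injective.comp_factorThru _ _

/-- the induced map of cokernels -/
def mapB : EtCoh.Gm P ⟶ cokernel (Injective.ι (EtCoh.mu P ℓ)) :=
  (shortExact_SK P ℓ).exact.desc (mapA P ℓ ≫ cokernel.π _) (by
    show kernel.ι (EtCoh.powMap P ℓ) ≫ mapA P ℓ ≫ _ = 0
    rw [← Category.assoc, ι_mapA, cokernel.condition])

theorem pow_mapB : EtCoh.powMap P ℓ ≫ mapB P ℓ = mapA P ℓ ≫ cokernel.π (Injective.ι (EtCoh.mu P ℓ)) :=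
  (shortExact_SK P ℓ).exact.g_desc _ _

theorem extClass_eq :
    (shortExact_SK P ℓ).extClass = (Ext.mk₀ (mapB P ℓ)).comp (shortExact_SI P ℓ).extClass (zero_add 1) := by
  let φ : SK P ℓ ⟶ SI P ℓ :=
    { τ₁ := 𝟙 _, τ₂ := mapA P ℓ, τ₃ := mapB P ℓ
      comm₁₂ := (Category.id_comp _).trans (ι_mapA P ℓ).symm
      comm₂₃ := (pow_mapB P ℓ).symm }
  have h := ShortComplex.ShortExact.extClass_naturality (shortExact_SK P ℓ) (shortExact_SI P ℓ) φ
  exact (Ext.comp_mk₀_id _).symm.trans h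

variable {P ℓ}

/-- a class dying in the presentation is a power -/
theorem exists_root_of_mapB {V : P.Etale} (t : free V ⟶ EtCoh.Gm P)
    (h : free V ⟶ Injective.under (EtCoh.mu P ℓ))
    (he : t ≫ mapB P ℓ = h ≫ cokernel.π (Injective.ι (EtCoh.mu P ℓ))) :
    ∃ v : free V ⟶ EtCoh.Gm P, v ≫ EtCoh.powMap P ℓ = t := by
  have hx : (Ext.mk₀ t).comp (shortExact_SK P ℓ).extClass (zero_add 1) = 0 := by
    rw [extClass_eq, Ext.mk₀_comp_mk₀_assoc, he, ← Ext.mk₀_comp_mk₀_assoc]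
    erw [(shortExact_SI P ℓ).comp_extClass]
    rw [Ext.comp_zero]
  obtain ⟨y, hy⟩ := Ext.covariant_sequence_exact₃ _ (shortExact_SK P ℓ) (Ext.mk₀ t) (rfl : 0 + 1 = 1) hx
  obtain ⟨v, rfl⟩ := (Ext.mk₀_bijective _ _).2 y
  rw [Ext.mk₀_comp_mk₀] at hy
  exact ⟨v, (Ext.mk₀_bijective _ _).1 hy⟩

/-- everything comes from the multiplicative group -/
theorem exists_decomp {E : Type u} [Field E] (e : Spec (CommRingCat.of E) ⟶ P) [AlgebraicGeometry.Etale e]
    (t : free (pt e) ⟶ cokernel (Injective.ι (EtCoh.mu P ℓ))) :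
    ∃ (w : free (pt e) ⟶ EtCoh.Gm P) (h : free (pt e) ⟶ Injective.under (EtCoh.mu P ℓ)),
      t = w ≫ mapB P ℓ + h ≫ cokernel.π (Injective.ι (EtCoh.mu P ℓ)) := by
  let x := (Ext.mk₀ t).comp (shortExact_SI P ℓ).extClass (zero_add 1)
  obtain ⟨y, hy⟩ := Ext.covariant_sequence_exact₁ _ (shortExact_SK P ℓ) x
    ((subsingleton_ext_Gm_one e).elim _ _) (rfl : 0 + 1 = 1)
  obtain ⟨w, rfl⟩ := (Ext.mk₀_bijective _ _).2 y
  rw [extClass_eq, Ext.mk₀_comp_mk₀_assoc] at hy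
  have h0 : (Ext.mk₀ (t - w ≫ mapB P ℓ)).comp (shortExact_SI P ℓ).extClass (zero_add 1) = 0 := by
    rw [show Ext.mk₀ (t - w ≫ mapB P ℓ) = Ext.mk₀ t - Ext.mk₀ (w ≫ mapB P ℓ) from map_sub Ext.addEquiv₀.symm _ _,
      sub_eq_add_neg, Ext.add_comp, Ext.neg_comp, ← sub_eq_add_neg, sub_eq_zero]
    exact hy.symm
  obtain ⟨z, hz⟩ := Ext.covariant_sequence_exact₃ _ (shortExact_SI P ℓ) _ (rfl : 0 + 1 = 1) h0
  obtain ⟨h, rfl⟩ := (Ext.mk₀_bijective _ _).2 z
  rw [Ext.mk₀_comp_mk₀] at hz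
  refine ⟨w, h, ?_⟩
  have := (Ext.mk₀_bijective _ _).1 hz
  rw [this, add_sub_cancel]

end Groth.Agent.EtDvrCd
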