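import Groth.Agent.EtDvrCd.LowerCore
import Groth.Agent.EtDvrCd.Upper

/-!
# Fraction fields of henselian discrete valuation rings: lower bound
-/

set_option autoImplicit false
set_option linter.style.haveILetI false
set_option linter.unusedSectionVars false
set_option backward.isDefEq.respectTransparency false
set_option backward.isDefEq.respectTransparency.types false

universe u

open CategoryTheory CategoryTheory.Limits AlgebraicGeometry Opposite Abelian IsLocalRing Polynomial

noncomputable section

namespace Groth.Agent.EtDvrCd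

open GalCd5 FieldCd EtFound

attribute [local instance] EtFound.pull_preservesFiniteLimits

section dvr

variable (A : Type u) [CommRing A] [IsDomain A] [IsDiscreteValuationRing A] [HenselianLocalRing A] {ℓ : ℕ}

/-- higher direct images from the generic point -/
theorem isZero_Rpush_point (hℓ : ℓ.Prime) (hℓA : IsUnit (ℓ : A)) (x : Tr A)
    (G : EtCoh.Ab (Spec ((Tr A).residueField x))) (a : ℕ) (hG : (ℓ ^ a) • 𝟙 G = 0) (b : ℕ) :
    IsZero ((EtCoh.Rpush ((Tr A).fromSpecResidueField x) (b + 2)).obj G) := by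
  haveI : IsNoetherian (Tr A) := inferInstance
  refine (isZero_iff_stalks _).2 fun Ω _ _ ξ => ?_
  refine EtCdFun.isZero_stalk_Rpush_point x G a hG (b + 2) ξ fun hxy R _ _ _ _ _ P hP => ?_
  haveI : P.IsPrime := hP.1.1
  refine ⟨1, by omega, cohDimLEAt_of_vanAbove hℓ ?_⟩
  let y := ξ.base (default : Spec (CommRingCat.of Ω))
  haveI : IsNoetherianRing R := (S0540.result ((Tr A).presheaf.stalk y) R).1 inferInstance
  haveI : HenselianLocalRing R := _root_.Hensel.IsStrictHenselization.henselian (R := (Tr A).presheaf.stalk y)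
  haveI : IsSepClosed (ResidueField R) :=
    (_root_.Hensel.IsStrictHenselization.isSepClosure (R := (Tr A).presheaf.stalk y) (S := R)).sep_closed
  letI : Algebra A ((Tr A).presheaf.stalk y) := StructureSheaf.stalkAlgebra A y
  haveI : IsLocalization.AtPrime ((Tr A).presheaf.stalk y) y.asIdeal := StructureSheaf.IsLocalization.to_stalk A y
  have hR : ringKrullDim R ≤ 1 := by
    rw [S0541.result ((Tr A).presheaf.stalk y) R,
      IsLocalization.AtPrime.ringKrullDim_eq_height y.asIdeal ((Tr A).presheaf.stalk y)]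
    exact (Ideal.height_le_ringKrullDim_of_ne_top y.isPrime.ne_top).trans
      (IsDiscreteValuationRing.ringKrullDim_eq_one A).le
  refine vd_frac_sh R hR P hℓ ?_
  simpa using (hℓA.map (algebraMap A ((Tr A).presheaf.stalk y))).map (algebraMap ((Tr A).presheaf.stalk y) R)

/-- the residue field below the generic point, for one sheaf -/
theorem subsingleton_H_residue_of_vd (hℓ : ℓ.Prime) (hℓA : IsUnit (ℓ : A)) (K : Type u) [Field K] [Algebra A K]
    [IsFractionRing A K] {d : ℕ} (hK : Vd ℓ K (d + 1)) (r : ℕ) (hr : d ≤ r) :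
    Subsingleton (EtCoh.H (Spec (CommRingCat.of (ResidueField A)))
      (EtCoh.const (Spec (CommRingCat.of (ResidueField A))) (ZMod ℓ)) (r + 1)) := by
  haveI : NeZero ℓ := ⟨hℓ.ne_zero⟩
  let x : Tr A := (⟨⊥, Ideal.bot_prime⟩ : PrimeSpectrum A)
  let κ := (Tr A).residueField x
  let φ := Spec.preimage ((Tr A).fromSpecResidueField x)
  letI : Algebra A κ := φ.hom.toAlgebra
  have hgen : gen A κ = (Tr A).fromSpecResidueField x := Spec.map_preimage _
  let ι := (Scheme.Spec.residueFieldIso (CommRingCat.of A) x).commRingCatIsoToRingEquiv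
  have hι : ∀ c : A, ι (algebraMap A κ c) = algebraMap A (⊥ : Ideal A).ResidueField c := fun c => by
    have h := (Scheme.Spec.map_residueFieldIso_inv_eq_fromSpecResidueField (CommRingCat.of A) x)
    have h2 : φ ≫ (Scheme.Spec.residueFieldIso (CommRingCat.of A) x).hom =
        CommRingCat.ofHom (algebraMap A (⊥ : Ideal A).ResidueField) := Spec.map_injective (by
      rw [Spec.map_comp, Spec.map_preimage, ← h, ← Category.assoc, ← Spec.map_comp]
      simp
      rfl)
    exact ConcreteCategory.congr_hom h2 c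
  haveI : IsFractionRing A κ := by
    haveI : FaithfulSMul A κ := (faithfulSMul_iff_algebraMap_injective A κ).2 fun c c' h => by
      have h' := congrArg ι h
      rw [hι, hι] at h'
      have h2 : c - c' ∈ RingHom.ker (algebraMap A (⊥ : Ideal A).ResidueField) := by
        rw [RingHom.mem_ker, map_sub, sub_eq_zero]
        exact h'
      rwa [Ideal.ker_algebraMap_residueField, Ideal.mem_bot, sub_eq_zero] at h2
    refine IsFractionRing.of_field _ _ fun z => ?_
    obtain ⟨p, q, -, hpq⟩ := IsFractionRing.div_surjective (A ⧸ (⊥ : Ideal A)) (ι z)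
    obtain ⟨p, rfl⟩ := Ideal.Quotient.mk_surjective p
    obtain ⟨q, rfl⟩ := Ideal.Quotient.mk_surjective q
    refine ⟨p, q, ι.injective ?_⟩
    rw [map_div₀, hι, hι]
    exact hpq.symm
  let e : K ≃+* κ := (IsLocalization.algEquiv (nonZeroDivisors A) K κ).toRingEquiv
  letI : Algebra K κ := e.toRingHom.toAlgebra
  have hκ : Vd ℓ κ (d + 1) := vd_of_ringEquiv e hK
  refine subsingleton_H_residue A κ hℓA r ?_ fun b => ?_
  · exact hκ _ 1 (by rw [pow_one]; exact killed_mu _ ℓ) (r + 2) (by omega)
  · rw [hgen]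
    exact isZero_Rpush_point A hℓ hℓA x _ 1 (by rw [pow_one]; exact killed_mu _ ℓ) b

end dvr

/-- finite separable extensions of the residue field lift -/
theorem exists_lift (A : Type u) [CommRing A] [IsDomain A] [IsDiscreteValuationRing A] [HenselianLocalRing A]
    (L : Type u) [Field L] [Algebra (ResidueField A) L] [Module.Finite (ResidueField A) L]
    [Algebra.IsSeparable (ResidueField A) L] :
    ∃ (B : Type u) (_ : CommRing B) (_ : IsDomain B) (_ : IsDiscreteValuationRing B) (_ : HenselianLocalRing B)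
      (_ : Algebra A B), Algebra.IsIntegral A B ∧ Function.Injective (algebraMap A B) ∧
      Nonempty (ResidueField B ≃+* L) := by
  obtain ⟨π, hπ⟩ := IsDiscreteValuationRing.exists_irreducible A
  have hπm : maximalIdeal A = Ideal.span {π} := (IsDiscreteValuationRing.irreducible_iff_uniformizer π).1 hπ
  obtain ⟨α, hα⟩ := Field.exists_primitive_element (ResidueField A) L
  have hint : IsIntegral (ResidueField A) α := Algebra.IsIntegral.isIntegral α
  let g := minpoly (ResidueField A) α
  obtain ⟨G, hG, -, hGm⟩ := lifts_and_degree_eq_and_monic (f := residue A)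
    ((mem_lifts g).2 (map_surjective _ residue_surjective g)) (minpoly.monic hint)
  let B := AdjoinRoot G
  haveI : Module.Finite A B := hGm.finite_adjoinRoot
  haveI : Module.Free A B := hGm.free_adjoinRoot
  haveI : Algebra.IsIntegral A B := inferInstance
  let e0 : (B ⧸ Ideal.map (AdjoinRoot.of G) (maximalIdeal A)) ≃+* L :=
    (AdjoinRoot.quotEquivQuotMap G (maximalIdeal A)).toRingEquiv.trans
      ((Ideal.quotientEquiv _ (Ideal.span {g}) (RingEquiv.refl _) (by
        rw [Ideal.map_span, Set.image_singleton]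
        show Ideal.span {g} = Ideal.span {G.map (Ideal.Quotient.mk (maximalIdeal A))}
        exact congrArg (fun t => Ideal.span {t}) hG.symm)).trans
        ((IntermediateField.adjoinRootEquivAdjoin (ResidueField A) hint).toRingEquiv.trans
          ((IntermediateField.equivOfEq hα).trans IntermediateField.topEquiv).toRingEquiv))
  let I := Ideal.map (AdjoinRoot.of G) (maximalIdeal A)
  haveI hI : I.IsMaximal := Ideal.Quotient.maximal_of_isField _ (e0.toMulEquiv.isField (Field.toIsField L))
  have huniq : ∀ M : Ideal B, M.IsMaximal → M = I := fun M hM => by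
    haveI := hM
    have h1 : M.comap (algebraMap A B) = maximalIdeal A :=
      IsLocalRing.eq_maximalIdeal (Ideal.isMaximal_comap_of_isIntegral_of_isMaximal M)
    exact (hI.eq_of_le hM.ne_top (Ideal.map_le_iff_le_comap.2 h1.ge)).symm
  haveI : IsLocalRing B := IsLocalRing.of_unique_max_ideal ⟨I, hI, huniq⟩
  have hmax : maximalIdeal B = Ideal.span {algebraMap A B π} := by
    rw [huniq _ (maximalIdeal.isMaximal B)]
    show Ideal.map (algebraMap A B) (maximalIdeal A) = _
    rw [hπm, Ideal.map_span, Set.image_singleton]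
  haveI : IsNoetherianRing B := IsNoetherianRing.of_finite A B
  have hreg : ∀ x : B, algebraMap A B π * x = 0 → x = 0 := fun x hx =>
    (Module.Flat.isSMulRegular_of_isRegular (M := B) (IsRegular.of_ne_zero hπ.ne_zero)).right_eq_zero_of_smul
      (by rwa [Algebra.smul_def])
  obtain ⟨hd, hp⟩ := EtDed7.isDomain_isPrincipalIdealRing_of_span _ hmax (Or.inr hreg)
  haveI := hd
  haveI := hp
  have hπ0 : algebraMap A B π ≠ 0 := fun h => one_ne_zero (hreg 1 (by rw [h, zero_mul]))
  haveI : IsDiscreteValuationRing B :=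
    { not_a_field' := fun h => hπ0 (Ideal.span_singleton_eq_bot.1 (hmax.symm.trans h)) }
  haveI : HenselianLocalRing B := Hensel.henselianLocalRing_of_isIntegral_local A B
  have hinj : Function.Injective (algebraMap A B) := by
    rw [RingHom.injective_iff_ker_eq_bot]
    by_contra hk
    haveI : (RingHom.ker (algebraMap A B)).IsPrime := RingHom.ker_isPrime _
    have : π ∈ RingHom.ker (algebraMap A B) := by
      rw [IsLocalRing.eq_maximalIdeal (Ideal.IsPrime.isMaximal inferInstance hk), hπm]
      exact Ideal.mem_span_singleton_self π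
    exact hπ0 this
  exact ⟨B, inferInstance, inferInstance, inferInstance, inferInstance, inferInstance, inferInstance, hinj,
    ⟨(Ideal.quotEquivOfEq (huniq _ (maximalIdeal.isMaximal B))).trans e0⟩⟩

/-- transport along an isomorphism of fields -/
theorem subsingleton_H_const_of_ringEquiv {k L : Type u} [Field k] [Field L] (e : k ≃+* L) (M : Type) [AddCommGroup M]
    (q : ℕ) (h : Subsingleton (EtCoh.H (Spec (CommRingCat.of k)) (EtCoh.const (Spec (CommRingCat.of k)) M) q)) :
    Subsingleton (EtCoh.H (Spec (CommRingCat.of L)) (EtCoh.const (Spec (CommRingCat.of L)) M) q) := by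
  let f : Spec (CommRingCat.of L) ⟶ Spec (CommRingCat.of k) := Spec.map e.toCommRingCatIso.hom
  haveI : IsIso f := inferInstance
  haveI : IsIso ((EtCoh.pullPushAdj f).unit.app (EtCoh.const (Spec (CommRingCat.of k)) M)) :=
    (isIso_iff_stalks _).2 fun Ω _ _ ξ => isIso_stalk_unit_closed f _ ξ
      ⟨default, Subsingleton.elim (α := Spec (CommRingCat.of k)) _ _⟩
  have h1 := GalCd5.subsingleton_H_of_iso
    (asIso ((EtCoh.pullPushAdj f).unit.app (EtCoh.const (Spec (CommRingCat.of k)) M))) q h
  exact GalCd5.subsingleton_H_of_iso (EtCore.pullConst f M) q ((GalCd5.subsingleton_H_push_iff f ((EtCoh.pull f).obj (EtCoh.const (Spec (CommRingCat.of k)) M)) q).1 h1)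

/-- the residue field has smaller cohomological dimension -/
theorem vd_residue_of_vd (A K : Type u) [CommRing A] [IsDomain A] [IsDiscreteValuationRing A] [HenselianLocalRing A]
    [Field K] [Algebra A K] [IsFractionRing A K] {ℓ : ℕ} (hℓ : ℓ.Prime) (hℓA : IsUnit (ℓ : A)) {d : ℕ}
    (hK : Vd ℓ K (d + 1)) : Vd ℓ (ResidueField A) d := by
  intro F a hF q hq
  obtain ⟨r, rfl⟩ : ∃ r, q = r + 1 := ⟨q - 1, by omega⟩
  refine CurveCd.subsingleton_H_of_isLTorsion (ResidueField A) ℓ hℓ (r + 1) (fun L _ _ _ _ => ?_) F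
    (isLTorsion_of_killed ℓ a hF)
  obtain ⟨B, _, _, _, _, _, hBint, hinj, ⟨e⟩⟩ := exists_lift A L
  haveI := hBint
  haveI : Module.IsTorsionFree A (FractionRing B) := by
    haveI : FaithfulSMul A (FractionRing B) := (faithfulSMul_iff_algebraMap_injective _ _).2
      ((IsFractionRing.injective B (FractionRing B)).comp hinj)
    infer_instance
  letI : Algebra K (FractionRing B) := (IsFractionRing.lift (g := algebraMap A (FractionRing B))
    ((IsFractionRing.injective B (FractionRing B)).comp hinj)).toAlgebra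
  haveI : IsScalarTower A K (FractionRing B) :=
    .of_algebraMap_eq fun c => (IsFractionRing.lift_algebraMap _ c).symm
  haveI : Algebra.IsAlgebraic A (FractionRing B) :=
    (IsFractionRing.isAlgebraic_iff' A B (K := FractionRing B)).1 inferInstance
  haveI : Algebra.IsAlgebraic K (FractionRing B) :=
    (IsFractionRing.comap_isAlgebraic_iff (A := A) (K := K) (C := FractionRing B)).1 inferInstance
  exact subsingleton_H_const_of_ringEquiv e (ZMod ℓ) (r + 1) (subsingleton_H_residue_of_vd B hℓ
    (by simpa using hℓA.map (algebraMap A B)) (FractionRing B) (vd_of_isAlgebraic hK) r (by omega))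

/-- the fraction field is not cohomologically trivial -/
theorem not_vd_zero (A K : Type u) [CommRing A] [IsDomain A] [IsDiscreteValuationRing A] [Field K] [Algebra A K]
    [IsFractionRing A K] {ℓ : ℕ} (hℓ : ℓ.Prime) (hℓK : (ℓ : K) ≠ 0) : ¬ Vd ℓ K 0 := by
  intro h
  obtain ⟨π, hπ⟩ := IsDiscreteValuationRing.exists_irreducible A
  let P := Spec (CommRingCat.of K)
  haveI : Epi (EtCoh.powMap P ℓ) := S0108.result P ℓ (CurveCd.natCast_isUnit_sections hℓK)
  have hπ0 : algebraMap A K π ≠ 0 := fun h => hπ.ne_zero (IsFractionRing.injective A K (h.trans (map_zero _).symm))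
  obtain ⟨t, ht⟩ := CurveCd.val_surjective (𝟙 P) (Units.mk0 _ hπ0)
  haveI h1 : Subsingleton (EtCoh.H P (EtCoh.mu P ℓ) 1) := h _ 1 (by rw [pow_one]; exact killed_mu _ ℓ) 1 Nat.one_pos
  haveI : Subsingleton (Ext (CurveCd.free (EtCoh.top P)) (EtCoh.mu P ℓ) 1) :=
    (CurveCd.subsingleton_H_iff _ 1).1 h1
  have hx : (Ext.mk₀ t).comp (shortExact_SK P ℓ).extClass (zero_add 1) = 0 :=
    Subsingleton.elim (α := Ext (CurveCd.free (EtCoh.top P)) (EtCoh.mu P ℓ) 1) _ _
  obtain ⟨y, hy⟩ := Ext.covariant_sequence_exact₃ _ (shortExact_SK P ℓ) (Ext.mk₀ t) (rfl : 0 + 1 = 1) hx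
  obtain ⟨v, rfl⟩ := (Ext.mk₀_bijective _ _).2 y
  rw [Ext.mk₀_comp_mk₀] at hy
  have hv : ((CurveCd.val v : Kˣ) : K) ^ ℓ = algebraMap A K π := by
    rw [← Units.val_pow_eq_pow_val, ← val_powMap, show v ≫ EtCoh.powMap P ℓ = t from (Ext.mk₀_bijective _ _).1 hy, ht]
    rfl
  have hint : IsIntegral A ((CurveCd.val v : Kˣ) : K) :=
    IsIntegral.of_pow hℓ.pos (by rw [hv]; exact isIntegral_algebraMap)
  obtain ⟨b, hb⟩ := IsIntegrallyClosed.isIntegral_iff.1 hint
  rw [← hb, ← map_pow] at hv
  have hbπ := IsFractionRing.injective A K hv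
  obtain ⟨m, hm⟩ : ∃ m, ℓ = m + 2 := ⟨ℓ - 2, by have := hℓ.two_le; omega⟩
  rcases hπ.isUnit_or_isUnit (a := b) (b := b ^ (m + 1)) (by rw [← hbπ, hm, pow_succ' b (m + 1)]) with hu | hu
  · exact hπ.not_isUnit (hbπ ▸ hu.pow ℓ)
  · exact hπ.not_isUnit (hbπ ▸ ((isUnit_pow_iff (Nat.succ_ne_zero m)).1 hu).pow ℓ)

end Groth.Agent.EtDvrCd
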