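import Groth.Agent.EtDvrCd.Residue
import Groth.Agent.GalCd5.Main
import Groth.Agent.S3073
import Groth.Agent.S8536
import Groth.Agent.CompDescent5.PushVanish
import Groth.Agent.AcycFin.Compare

/-!
# Cohomology of the residue field below that of the generic point
-/

set_option autoImplicit false
set_option linter.style.haveILetI false
set_option linter.unusedSectionVars false
set_option backward.isDefEq.respectTransparency false
set_option backward.isDefEq.respectTransparency.types false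

universe u

open CategoryTheory CategoryTheory.Limits AlgebraicGeometry Opposite Abelian IsLocalRing

noncomputable section

namespace Groth.Agent.EtDvrCd

open CurveCd EtFound

attribute [local instance] EtFound.pull_preservesFiniteLimits

/-- `ℤ/ℓ` as a cokernel -/
theorem nonempty_cokernel_iso (X : Scheme.{u}) (ℓ : ℕ) [NeZero ℓ] :
    Nonempty (cokernel (ℓ • 𝟙 (EtCoh.const X ℤ)) ≅ EtCoh.const X (ZMod ℓ)) := by
  haveI : PreservesFiniteColimits (GalCd5.constF X) :=
    haveI := (EtCore.constAdj X).leftAdjoint_preservesColimits; inferInstance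
  haveI := GalCd5.constF_preservesFiniteLimits X
  haveI : (GalCd5.constF X).Additive := Functor.additive_of_preserves_binary_products _
  let M := AddCommGrpCat.of (ULift.{u + 1} ℤ)
  let g : M ⟶ AddCommGrpCat.of (ULift.{u + 1} (ZMod ℓ)) := AddCommGrpCat.ofHom
    ((AddEquiv.ulift.{0, u + 1}.symm.toAddMonoidHom.comp (Int.castAddHom (ZMod ℓ))).comp AddEquiv.ulift.toAddMonoidHom)
  have hf : ∀ x : ULift.{u + 1} ℤ, ((ℓ • 𝟙 M : M ⟶ M).hom x) = ℓ • x := fun x => by
    rw [AddCommGrpCat.hom_nsmul, AddMonoidHom.nsmul_apply]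
    rfl
  have w : (ℓ • 𝟙 M) ≫ g = 0 := AddCommGrpCat.ext fun x => ULift.ext _ _ (by
    show ((((ℓ • 𝟙 M : M ⟶ M).hom x).down : ℤ) : ZMod ℓ) = 0
    rw [hf]
    show (((ℓ • x.down : ℤ)) : ZMod ℓ) = 0
    simp)
  have hS : (ShortComplex.mk (ℓ • 𝟙 M) g w).ShortExact :=
    { exact := (ShortComplex.ab_exact_iff _).2 fun x hx => by
        obtain ⟨c, hc⟩ := (ZMod.intCast_zmod_eq_zero_iff_dvd x.down ℓ).1 (congrArg ULift.down hx)
        refine ⟨⟨c⟩, (hf ⟨c⟩).trans (ULift.ext _ _ ?_)⟩
        show (ℓ • c : ℤ) = x.down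
        rw [hc, nsmul_eq_mul]
      mono_f := (AddCommGrpCat.mono_iff_injective _).2 fun a b e => ULift.ext _ _ (by
        have h2 := congrArg ULift.down ((hf a).symm.trans (e.trans (hf b)))
        have h3 : (ℓ : ℤ) * a.down = ℓ * b.down := by
          rw [← nsmul_eq_mul, ← nsmul_eq_mul]
          exact h2
        exact mul_left_cancel₀ (Int.natCast_ne_zero.2 (NeZero.ne ℓ)) h3)
      epi_g := (AddCommGrpCat.epi_iff_surjective _).2 fun y =>
        ⟨⟨(y.down.val : ℤ)⟩, ULift.ext _ _ (by show (((y.down.val : ℤ)) : ZMod ℓ) = y.down; simp)⟩ }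
  have h2 := hS.map_of_exact (GalCd5.constF X)
  have e1 : (GalCd5.constF X).map (ℓ • 𝟙 M) = ℓ • 𝟙 (EtCoh.const X ℤ) := by
    rw [Functor.map_nsmul, CategoryTheory.Functor.map_id]
  exact ⟨(cokernelIsoOfEq e1.symm) ≪≫
    (cokernelIsCokernel ((GalCd5.constF X).map (ℓ • 𝟙 M))).coconePointUniqueUpToIso h2.gIsCokernel⟩

theorem mono_nsmul_const (X : Scheme.{u}) (ℓ : ℕ) [NeZero ℓ] : Mono (ℓ • 𝟙 (EtCoh.const X ℤ)) := by
  haveI := GalCd5.constF_preservesFiniteLimits X
  haveI : (GalCd5.constF X).Additive := Functor.additive_of_preserves_binary_products _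
  haveI : (GalCd5.constF X).PreservesMonomorphisms := inferInstance
  let M := AddCommGrpCat.of (ULift.{u + 1} ℤ)
  haveI : Mono (ℓ • 𝟙 M) := (AddCommGrpCat.mono_iff_injective _).2 fun a b e => by
    have h : ℓ • a = ℓ • b := by
      simpa [AddCommGrpCat.hom_nsmul, AddMonoidHom.nsmul_apply] using e
    refine ULift.ext _ _ (mul_left_cancel₀ (Int.natCast_ne_zero.2 (NeZero.ne ℓ)) ?_)
    rw [← nsmul_eq_mul, ← nsmul_eq_mul]
    exact congrArg ULift.down h
  have : ℓ • 𝟙 (EtCoh.const X ℤ) = (GalCd5.constF X).map (ℓ • 𝟙 M) := by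
    rw [Functor.map_nsmul, CategoryTheory.Functor.map_id]
  rw [this]
  infer_instance

variable (A K : Type u) [CommRing A] [IsDomain A] [IsDiscreteValuationRing A] [HenselianLocalRing A] [Field K]
  [Algebra A K] [IsFractionRing A K] {ℓ : ℕ} [NeZero ℓ]

theorem isIso_pull_residue [Epi (EtCoh.powMap (Spec (CommRingCat.of K)) ℓ)] {π : A} (hπ : Irreducible π)
    (hℓA : IsUnit (ℓ : A))
    (δ : cokernel (ℓ • 𝟙 (EtCoh.const (Tr A) ℤ)) ⟶ cokernel (jg A K ℓ))
    (hδ : cokernel.π _ ≫ δ = (topIso (X := Tr A)).inv ≫ d0 K ℓ hπ ≫ cokernel.π (jg A K ℓ)) :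
    IsIso ((EtCoh.pull (Spec.map (CommRingCat.ofHom (residue A)))).map δ) := by
  let X := Tr A
  let s := Spec.map (CommRingCat.ofHom (residue A))
  refine (isIso_iff_stalks _).2 fun Ω _ _ ξ' => ?_
  suffices h : IsIso ((EtCoh.stalk (ξ' ≫ s)).map δ) from
    (NatIso.isIso_map_iff (stalkPullIso s ξ') δ).2 h
  obtain ⟨φ, hφ⟩ := Spec.map_surjective (ξ' ≫ s)
  letI : Algebra A Ω := φ.hom.toAlgebra
  have hz : maximalIdeal A ≤ RingHom.ker (algebraMap A Ω) := fun a ha => by
    have h : φ = CommRingCat.ofHom (residue A) ≫ Spec.preimage ξ' :=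
      Spec.map_injective (by rw [Spec.map_comp, Spec.map_preimage, hφ])
    show φ.hom a = 0
    rw [h]
    show (Spec.preimage ξ').hom (residue A a) = 0
    rw [(IsLocalRing.residue_eq_zero_iff a).2 ha, map_zero]
  rw [← hφ]
  show IsIso ((EtCoh.stalk (gpt A Ω)).map δ)
  let S := EtCoh.stalk (gpt A Ω)
  haveI : S.Additive := stalk_additive _
  haveI : PreservesFiniteLimits S := inferInstance
  haveI : PreservesFiniteColimits S := inferInstance
  let S₁ := ShortComplex.mk (ℓ • 𝟙 (EtCoh.const X ℤ)) (cokernel.π _) (cokernel.condition _)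
  let S₂ := ShortComplex.mk (jg A K ℓ) (cokernel.π (jg A K ℓ)) (cokernel.condition _)
  have hS₂ : (S₂.map S).Exact := (ShortComplex.exact_of_g_is_cokernel S₂ (cokernelIsCokernel _)).map S
  have hep1 : Function.Surjective (S.map (cokernel.π (ℓ • 𝟙 (EtCoh.const X ℤ)))).hom :=
    (AddCommGrpCat.epi_iff_surjective _).1 inferInstance
  have hep2 : Function.Surjective (S.map (cokernel.π (jg A K ℓ))).hom :=
    (AddCommGrpCat.epi_iff_surjective _).1 inferInstance
  let z0 := br (gpt A Ω) (zt (A := A) (Ω := Ω))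
  let e1 := (S.map (topIso (X := X)).hom).hom z0
  have hgen : ∀ x : S.obj (EtCoh.const X ℤ), ∃ n : ℤ, x = n • e1 := by
    intro x
    obtain ⟨c, hc⟩ := comb_surjective (gpt A Ω) (EtCoh.top X) ((S.map (topIso (X := X)).inv).hom x)
    haveI : Subsingleton (Pts (gpt A Ω) (EtCoh.top X)) := ⟨fun a b => CategoryTheory.Over.OverMorphism.ext
      (((Category.comp_id _).symm.trans (CategoryTheory.Over.w a)).trans
        ((Category.comp_id _).symm.trans (CategoryTheory.Over.w b)).symm)⟩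
    rw [show c = Finsupp.single zt (c zt) from Finsupp.ext fun a => by
      rw [Subsingleton.elim a zt, Finsupp.single_eq_same], comb_single] at hc
    refine ⟨c zt, ?_⟩
    have h2 := congrArg (S.map (topIso (X := X)).hom).hom hc
    rw [map_zsmul, ← ConcreteCategory.comp_apply, ← Functor.map_comp, Iso.inv_hom_id, CategoryTheory.Functor.map_id] at h2
    exact h2.symm
  have hval : ∀ n : ℤ, (S.map δ).hom ((S.map (cokernel.π (ℓ • 𝟙 (EtCoh.const X ℤ)))).hom (n • e1)) =
      (S.map (cokernel.π (jg A K ℓ))).hom (n • (S.map (d0 K ℓ hπ)).hom z0) := by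
    intro n
    rw [map_zsmul, map_zsmul, map_zsmul]
    refine congrArg (n • ·) ?_
    show (S.map δ).hom ((S.map (cokernel.π _)).hom ((S.map (topIso (X := X)).hom).hom z0)) = _
    rw [← ConcreteCategory.comp_apply, ← ConcreteCategory.comp_apply, ← Functor.map_comp, ← Functor.map_comp,
      hδ, Iso.hom_inv_id_assoc, Functor.map_comp]
    rfl
  refine (ConcreteCategory.isIso_iff_bijective _).2
    ⟨(injective_iff_map_eq_zero (S.map δ).hom).2 fun x hx => ?_, fun y => ?_⟩
  · obtain ⟨x, rfl⟩ := hep1 x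
    obtain ⟨n, rfl⟩ := hgen x
    rw [hval] at hx
    obtain ⟨w, hw⟩ := (ShortComplex.ab_exact_iff _).1 hS₂ _ hx
    obtain ⟨c, rfl⟩ := dvd_of_stalk_eq K ℓ hπ hz n w hw.symm
    have h0 : (S.map (ℓ • 𝟙 (EtCoh.const X ℤ))).hom (c • e1) = (ℓ : ℤ) • c • e1 := by
      rw [Functor.map_nsmul, CategoryTheory.Functor.map_id, AddCommGrpCat.hom_nsmul, AddMonoidHom.nsmul_apply,
        natCast_zsmul]
      rfl
    rw [mul_smul, ← h0, ← ConcreteCategory.comp_apply, ← Functor.map_comp, cokernel.condition, Functor.map_zero]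
    rfl
  · obtain ⟨t, rfl⟩ := hep2 y
    obtain ⟨n, w, rfl⟩ := exists_stalk_eq K ℓ hπ hz (NeZero.pos ℓ) hℓA t
    refine ⟨(S.map (cokernel.π _)).hom (n • e1), ?_⟩
    rw [hval, map_add, ← ConcreteCategory.comp_apply (f := S.map (jg A K ℓ)), ← Functor.map_comp, cokernel.condition,
      Functor.map_zero]
    exact (add_zero _).symm

/-- the residue field has no cohomology where the generic point has none one degree above -/
theorem subsingleton_H_residue (hℓA : IsUnit (ℓ : A)) (r : ℕ)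
    (hP : Subsingleton (EtCoh.H (Spec (CommRingCat.of K)) (EtCoh.mu (Spec (CommRingCat.of K)) ℓ) (r + 2)))
    (hR : ∀ b, IsZero ((EtCoh.Rpush (gen A K) (b + 2)).obj (EtCoh.mu (Spec (CommRingCat.of K)) ℓ))) :
    Subsingleton (EtCoh.H (Spec (CommRingCat.of (ResidueField A)))
      (EtCoh.const (Spec (CommRingCat.of (ResidueField A))) (ZMod ℓ)) (r + 1)) := by
  obtain ⟨π, hπ⟩ := IsDiscreteValuationRing.exists_irreducible A
  let P := Spec (CommRingCat.of K)
  let X := Tr A
  have hℓK : (ℓ : K) ≠ 0 := by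
    rw [← map_natCast (algebraMap A K) ℓ]
    exact (hℓA.map _).ne_zero
  haveI : Epi (EtCoh.powMap P ℓ) := S0108.result P ℓ (CurveCd.natCast_isUnit_sections hℓK)
  haveI : (EtCoh.push (gen A K)).IsRightAdjoint := (EtCoh.pullPushAdj (gen A K)).isRightAdjoint
  haveI : (EtCoh.push (gen A K)).Additive := (EtCoh.pullPushAdj (gen A K)).right_adjoint_additive
  haveI : (EtCoh.pull (gen A K)).PreservesMonomorphisms := inferInstance
  haveI := mono_nsmul_const X ℓ
  -- adjust the class of the uniformizer so that it is killed by `ℓ`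
  obtain ⟨h, hh⟩ := exists_nsmul_d0 K ℓ hπ
  haveI : Injective ((EtCoh.push (gen A K)).obj (Injective.under (EtCoh.mu P ℓ))) :=
    Injective.injective_of_adjoint (EtCoh.pullPushAdj (gen A K)) _
  let h' := Injective.factorThru ((topIso (X := X)).inv ≫ h) (ℓ • 𝟙 (EtCoh.const X ℤ))
  have hh' : (ℓ • 𝟙 (EtCoh.const X ℤ)) ≫ h' = (topIso (X := X)).inv ≫ h := Injective.comp_factorThru _ _
  let d1 := (topIso (X := X)).inv ≫ d0 K ℓ hπ - h' ≫ jg A K ℓ
  have hd1 : (ℓ • 𝟙 (EtCoh.const X ℤ)) ≫ d1 = 0 := by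
    rw [Preadditive.comp_sub, ← Category.assoc _ h', hh', sub_eq_zero, Category.assoc, ← hh,
      Preadditive.nsmul_comp, Category.id_comp, Preadditive.comp_nsmul]
  let δ' := cokernel.desc _ d1 hd1
  let δ := δ' ≫ cokernel.π (jg A K ℓ)
  haveI := isIso_pull_residue A K hπ hℓA δ (by
    rw [cokernel.π_desc_assoc, Preadditive.sub_comp, Category.assoc, Category.assoc, cokernel.condition, comp_zero,
      sub_zero])
  -- the direct image of the presentation is acyclic in the relevant degree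
  have hQ : Subsingleton (EtCoh.H X ((EtCoh.push (gen A K)).obj (cokernel (Injective.ι (EtCoh.mu P ℓ)))) (r + 1)) := by
    refine CompDescent5.subsingleton_H_push (gen A K) r _ (fun j _ => ?_) ?_
    · let T := SESResLib.derivedLES (EtCoh.push (gen A K))
      exact (T.exact₃ (SI P ℓ) (shortExact_SI P ℓ) (j + 1) (j + 2) rfl).isZero_X₂
        (((EtCoh.push (gen A K)).isZero_rightDerived_obj_injective_succ j (Injective.under (EtCoh.mu P ℓ))).eq_of_src _ _)
        ((hR j).eq_of_tgt _ _)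
    · haveI : Injective (SI P ℓ).X₂ := inferInstanceAs (Injective (Injective.under (EtCoh.mu P ℓ)))
      exact (BcQCalc.subsingleton_H_succ_iff (shortExact_SI P ℓ) r).1 hP
  let s := Spec.map (CommRingCat.ofHom (residue A))
  haveI := (EtCoh.pullPushAdj s).left_adjoint_additive
  have hz : Subsingleton (EtCoh.H (Spec (CommRingCat.of (ResidueField A)))
      ((EtCoh.pull s).obj (cokernel (ℓ • 𝟙 (EtCoh.const X ℤ)))) (r + 1)) := by
    refine subsingleton_of_forall_eq 0 fun x => ?_
    obtain ⟨y, rfl⟩ := (S3073.result A (cokernel (ℓ • 𝟙 (EtCoh.const X ℤ))) (r + 1)).2 x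
    have h1 : y.comp (Ext.mk₀ δ) (add_zero (r + 1)) = 0 := by
      rw [show Ext.mk₀ δ = (Ext.mk₀ δ').comp (Ext.mk₀ (cokernel.π (jg A K ℓ))) (add_zero 0) from
        (Ext.mk₀_comp_mk₀ _ _).symm, ← Ext.comp_assoc_of_third_deg_zero,
        hQ.elim (y.comp (Ext.mk₀ δ') (add_zero (r + 1))) 0, Ext.zero_comp]
    have h2 := S8536.Hpull_comp_mk₀ s δ (r + 1) y
    rw [h1, map_zero] at h2
    exact (AcycFin.eq_zero_iff_comp_mk₀ _ _ _).1 h2.symm
  obtain ⟨e0⟩ := nonempty_cokernel_iso (Spec (CommRingCat.of (ResidueField A))) ℓ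
  haveI : PreservesColimitsOfSize.{0, 0} (EtCoh.pull s) := (EtCoh.pullPushAdj s).leftAdjoint_preservesColimits
  let e1 : (EtCoh.pull s).obj (cokernel (ℓ • 𝟙 (EtCoh.const X ℤ))) ≅
      EtCoh.const (Spec (CommRingCat.of (ResidueField A))) (ZMod ℓ) :=
    PreservesCokernel.iso (EtCoh.pull s) _ ≪≫
      cokernel.mapIso _ (ℓ • 𝟙 (EtCoh.const (Spec (CommRingCat.of (ResidueField A))) ℤ))
        (EtCore.pullConst s ℤ) (EtCore.pullConst s ℤ) (by
          rw [Functor.map_nsmul, CategoryTheory.Functor.map_id, Preadditive.nsmul_comp, Preadditive.comp_nsmul,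
            Category.id_comp, Category.comp_id]) ≪≫ e0
  exact GalCd5.subsingleton_H_of_iso e1 (r + 1) hz

end Groth.Agent.EtDvrCd
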