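import Groth.Agent.EtDed7.Basic
import Mathlib.RingTheory.Etale.QuasiFinite
import Mathlib.RingTheory.Etale.StandardEtale
import Mathlib.RingTheory.Unramified.LocalRing
import Mathlib.RingTheory.Smooth.Flat
import Mathlib.RingTheory.DiscreteValuationRing.Basic
import Mathlib.FieldTheory.IsSepClosed

/-!
# Étale neighbourhoods of the closed point of a discrete valuation ring
-/

set_option autoImplicit false
set_option backward.isDefEq.respectTransparency false
set_option backward.isDefEq.respectTransparency.types false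

universe u

open IsLocalRing Polynomial

noncomputable section

namespace Groth.Agent.EtDvrCd

variable (A : Type u) [CommRing A] [IsDomain A] [IsDiscreteValuationRing A] (Ω : Type u) [Field Ω] [Algebra A Ω]

/-- an étale neighbourhood which is a discrete valuation ring -/
structure Nb where
  B : Type u
  [commRing : CommRing B]
  [algA : Algebra A B]
  [isDomain : IsDomain B]
  [dvr : IsDiscreteValuationRing B]
  [etale : Algebra.Etale A B]
  max : maximalIdeal B = (maximalIdeal A).map (algebraMap A B)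
  inj : Function.Injective (algebraMap A B)
  z : B →ₐ[A] Ω

attribute [instance] Nb.commRing Nb.algA Nb.isDomain Nb.dvr Nb.etale

variable {A Ω}

theorem Nb.irreducible (N : Nb A Ω) {π : A} (hπ : Irreducible π) : Irreducible (algebraMap A N.B π) := by
  rw [IsDiscreteValuationRing.irreducible_iff_uniformizer, N.max,
    (IsDiscreteValuationRing.irreducible_iff_uniformizer π).1 hπ, Ideal.map_span, Set.image_singleton]

/-- an étale algebra with a point over the closed point has a neighbourhood which is a valuation ring -/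
theorem exists_nb (C : Type u) [CommRing C] [Algebra A C] [Algebra.Etale A C] (z : C →ₐ[A] Ω)
    (hz : maximalIdeal A ≤ RingHom.ker (algebraMap A Ω)) :
    ∃ (N : Nb A Ω) (f : C →ₐ[A] N.B), N.z.comp f = z := by
  classical
  obtain ⟨π, hπ⟩ := IsDiscreteValuationRing.exists_irreducible A
  have hπm : maximalIdeal A = Ideal.span {π} := (IsDiscreteValuationRing.irreducible_iff_uniformizer π).1 hπ
  haveI : Module.Flat A C := inferInstance
  haveI : IsNoetherianRing C := Algebra.FiniteType.isNoetherianRing A C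
  let w : Ideal C := RingHom.ker z
  haveI : w.IsPrime := RingHom.ker_isPrime _
  -- only finitely many primes
  have hfin : {Q : Ideal C | Q.IsPrime}.Finite := by
    refine (((Algebra.QuasiFinite.finite_primesOver (R := A) (S := C) ⊥).union
      (Algebra.QuasiFinite.finite_primesOver (R := A) (S := C) (maximalIdeal A)))).subset fun Q hQ => ?_
    haveI : Q.IsPrime := hQ
    by_cases h : Q.comap (algebraMap A C) = ⊥
    · exact Or.inl ⟨hQ, ⟨h.symm⟩⟩
    · exact Or.inr ⟨hQ, ⟨(IsLocalRing.eq_maximalIdeal (Ideal.IsPrime.isMaximal inferInstance h)).symm⟩⟩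
  have hch : ∀ Q : Ideal C, ∃ c : C, c ∉ w ∧ (¬ Q ≤ w → c ∈ Q) := fun Q => by
    by_cases h : Q ≤ w
    · exact ⟨1, fun h1 => (Ideal.IsPrime.ne_top (I := w) inferInstance) ((Ideal.eq_top_iff_one w).2 h1), fun h' => absurd h h'⟩
    · obtain ⟨c, hcQ, hcw⟩ := SetLike.not_le_iff_exists.1 h
      exact ⟨c, hcw, fun _ => hcQ⟩
  choose c hcw hcQ using hch
  let f : C := ∏ Q ∈ hfin.toFinset, c Q
  have hfw : f ∉ w := fun h => by
    obtain ⟨Q, -, hQ⟩ := Ideal.IsPrime.prod_mem_iff.1 h
    exact hcw Q hQ
  have hf : ∀ Q : Ideal C, Q.IsPrime → f ∉ Q → Q ≤ w := fun Q hQ hfQ => by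
    by_contra h
    exact hfQ (Ideal.IsPrime.prod_mem_iff.2 ⟨Q, hfin.mem_toFinset.2 hQ, hcQ Q h⟩)
  let B := Localization.Away f
  haveI : IsLocalization.AtPrime B w := IsLocalization.isLocalization_of_is_exists_mul_mem (S := B)
    (Submonoid.powers f) w.primeCompl (Submonoid.powers_le.2 hfw) fun ⟨s, hs⟩ => by
      have : f ∈ (Ideal.span {s}).radical := by
        rw [Ideal.radical_eq_sInf, Ideal.mem_sInf]
        rintro Q ⟨hsQ, hQ⟩
        by_contra hfQ
        exact hs (hf Q hQ hfQ (hsQ (Ideal.mem_span_singleton_self s)))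
      obtain ⟨n, hn⟩ := this
      obtain ⟨m, hm⟩ := Ideal.mem_span_singleton'.1 hn
      exact ⟨m, n, hm.symm⟩
  haveI : IsLocalRing B := IsLocalization.AtPrime.isLocalRing B w
  haveI : Algebra.Etale C B := Algebra.Etale.of_isLocalizationAway f
  haveI : Algebra.Etale A B := Algebra.Etale.comp A C B
  haveI : IsNoetherianRing B := IsLocalization.isNoetherianRing (Submonoid.powers f) B inferInstance
  let zB : B →ₐ[A] Ω :=
    IsLocalization.liftAlgHom (M := w.primeCompl) (f := z) fun y => isUnit_iff_ne_zero.2 fun h => y.2 h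
  have hzB : zB.comp (IsScalarTower.toAlgHom A C B) = z := AlgHom.ext fun y => IsLocalization.lift_eq _ y
  haveI : IsLocalHom (algebraMap A B) := ⟨fun a ha => by
    by_contra hna
    have h1 := ha.map zB
    rw [AlgHom.commutes, RingHom.mem_ker.1 (hz hna)] at h1
    exact not_isUnit_zero h1⟩
  have hmax : maximalIdeal B = (maximalIdeal A).map (algebraMap A B) :=
    (Algebra.FormallyUnramified.map_maximalIdeal (R := A) (S := B)).symm
  have hsp : maximalIdeal B = Ideal.span {algebraMap A B π} := by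
    rw [hmax, hπm, Ideal.map_span, Set.image_singleton]
  have hreg : ∀ x : B, algebraMap A B π * x = 0 → x = 0 := fun x hx => by
    haveI : Module.Flat A B := inferInstance
    have h := Module.Flat.isSMulRegular_of_isRegular (M := B) (IsRegular.of_ne_zero hπ.ne_zero)
    exact h.right_eq_zero_of_smul (by rwa [Algebra.smul_def])
  obtain ⟨hd, hp⟩ := EtDed7.isDomain_isPrincipalIdealRing_of_span _ hsp (Or.inr hreg)
  haveI := hd
  haveI := hp
  have hπ0 : algebraMap A B π ≠ 0 := fun h => one_ne_zero (hreg 1 (by rw [h, zero_mul]))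
  haveI : IsDiscreteValuationRing B :=
    { not_a_field' := fun h => hπ0 (Ideal.span_singleton_eq_bot.1 (hsp.symm.trans h)) }
  have hinj : Function.Injective (algebraMap A B) := by
    rw [RingHom.injective_iff_ker_eq_bot]
    by_contra hk
    haveI : (RingHom.ker (algebraMap A B)).IsPrime := RingHom.ker_isPrime _
    have : π ∈ RingHom.ker (algebraMap A B) := by
      rw [IsLocalRing.eq_maximalIdeal (Ideal.IsPrime.isMaximal inferInstance hk), hπm]
      exact Ideal.mem_span_singleton_self π
    exact hπ0 this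
  exact ⟨⟨B, hmax, hinj, zB⟩, IsScalarTower.toAlgHom A C B, hzB⟩

variable [IsSepClosed Ω]

/-- a unit becomes a power in a neighbourhood -/
theorem exists_nb_root (N : Nb A Ω) (hz : maximalIdeal A ≤ RingHom.ker (algebraMap A Ω)) {ℓ : ℕ} (hℓ : 1 ≤ ℓ)
    (hℓA : IsUnit (ℓ : A)) (v : N.Bˣ) :
    ∃ (M : Nb A Ω) (f : N.B →ₐ[A] M.B) (w : M.Bˣ), M.z.comp f = N.z ∧ w ^ ℓ = Units.map f.toRingHom.toMonoidHom v := by
  have hℓB : IsUnit (ℓ : N.B) := by simpa using hℓA.map (algebraMap A N.B)
  obtain ⟨u, hu⟩ := hℓB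
  let P : StandardEtalePair N.B :=
    { f := X ^ ℓ - C (v : N.B)
      monic_f := monic_X_pow_sub_C _ (by omega)
      g := X
      cond := ⟨C (↑u⁻¹ : N.B) * X, 0, ℓ, by
        rw [derivative_sub, derivative_C, sub_zero, derivative_X_pow, mul_zero, add_zero, ← hu]
        rw [mul_mul_mul_comm, ← map_mul, Units.mul_inv, map_one, one_mul, ← pow_succ, Nat.sub_add_cancel hℓ]⟩ }
  haveI : NeZero ((ℓ : ℕ) : Ω) := ⟨by
    rw [← map_natCast (algebraMap A Ω) ℓ]
    exact (hℓA.map _).ne_zero⟩
  obtain ⟨r, hr⟩ := IsSepClosed.exists_pow_nat_eq (N.z (v : N.B)) ℓ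
  letI : Algebra N.B Ω := N.z.toRingHom.toAlgebra
  haveI : IsScalarTower A N.B Ω := .of_algebraMap_eq fun a => (N.z.commutes a).symm
  have hr0 : r ≠ 0 := fun h => (v.isUnit.map N.z).ne_zero (by rw [← hr, h, zero_pow (by omega)])
  have hmap : P.HasMap r := ⟨by
    show aeval r (X ^ ℓ - C (v : N.B)) = 0
    rw [map_sub, map_pow, aeval_X, aeval_C, hr, sub_eq_zero]
    rfl, by show IsUnit (aeval r (X : N.B[X])); rw [aeval_X]; exact isUnit_iff_ne_zero.2 hr0⟩
  letI : Algebra A P.Ring := ((algebraMap N.B P.Ring).comp (algebraMap A N.B)).toAlgebra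
  haveI : IsScalarTower A N.B P.Ring := .of_algebraMap_eq' rfl
  haveI : Algebra.Etale A P.Ring := Algebra.Etale.comp A N.B P.Ring
  obtain ⟨M, g, hg⟩ := exists_nb P.Ring ((P.lift r hmap).restrictScalars A) hz
  refine ⟨M, g.comp (IsScalarTower.toAlgHom A N.B P.Ring),
    (((P.hasMap_X).2.map g).unit.copy (g P.X) (by simp [P]) _ rfl), ?_, ?_⟩
  · rw [← AlgHom.comp_assoc, hg]
    exact AlgHom.ext fun b => (P.lift r hmap).commutes b
  · refine Units.ext ?_
    show g P.X ^ ℓ = g (algebraMap N.B P.Ring (v : N.B))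
    rw [← map_pow]
    refine congrArg g ?_
    have h := P.hasMap_X.1
    simpa [P, sub_eq_zero] using h

end Groth.Agent.EtDvrCd
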