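import Groth.Agent.EtDvrCd.Geom
import Groth.Agent.EtDvrCd.Kummer

/-!
# The class of a uniformizer in the first higher direct image
-/

set_option autoImplicit false
set_option linter.style.haveILetI false
set_option linter.unusedSectionVars false
set_option backward.isDefEq.respectTransparency false
set_option backward.isDefEq.respectTransparency.types false

universe u

open CategoryTheory CategoryTheory.Limits AlgebraicGeometry Opposite IsLocalRing

noncomputable section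

namespace Groth.Agent.EtDvrCd

open CurveCd

section transfer

variable {X P : Scheme.{u}} (i : P ⟶ X)

/-- sections of a direct image -/
def dn {W : X.Etale} {F : EtCoh.Ab P} (φ : free W ⟶ (EtCoh.push i).obj F) : free ((EtCoh.bc i).obj W) ⟶ F :=
  lift ((sec φ : ((EtCoh.push i).obj F).obj.obj (op W)) : F.obj.obj (op ((EtCoh.bc i).obj W)))

/-- sections of a direct image, backwards -/
def up {W : X.Etale} {F : EtCoh.Ab P} (ψ : free ((EtCoh.bc i).obj W) ⟶ F) : free W ⟶ (EtCoh.push i).obj F :=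
  lift (F := (EtCoh.push i).obj F) (sec ψ : F.obj.obj (op ((EtCoh.bc i).obj W)))

theorem sec_dn {W : X.Etale} {F : EtCoh.Ab P} (φ : free W ⟶ (EtCoh.push i).obj F) :
    sec (dn i φ) = ((sec φ : ((EtCoh.push i).obj F).obj.obj (op W)) : F.obj.obj (op ((EtCoh.bc i).obj W))) := sec_lift _

theorem dn_up {W : X.Etale} {F : EtCoh.Ab P} (ψ : free ((EtCoh.bc i).obj W) ⟶ F) : dn i (up i ψ) = ψ := by
  apply sec_injective
  rw [sec_dn]
  exact sec_lift _

theorem dn_injective {W : X.Etale} {F : EtCoh.Ab P} : Function.Injective (dn i (W := W) (F := F)) := fun a b h => by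
  apply sec_injective
  exact (sec_dn i a).symm.trans ((congrArg sec h).trans (sec_dn i b))

theorem dn_comp {W : X.Etale} {F G : EtCoh.Ab P} (φ : free W ⟶ (EtCoh.push i).obj F) (g : F ⟶ G) :
    dn i (φ ≫ (EtCoh.push i).map g) = dn i φ ≫ g := by
  apply sec_injective
  rw [sec_dn, sec_comp, sec_comp, sec_dn]
  rfl

theorem dn_fmap {V W : X.Etale} {F : EtCoh.Ab P} (h : V ⟶ W) (φ : free W ⟶ (EtCoh.push i).obj F) :
    dn i (fmap h ≫ φ) = fmap ((EtCoh.bc i).map h) ≫ dn i φ := by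
  apply sec_injective
  rw [sec_dn, sec_fmap_comp, sec_fmap_comp, sec_dn]
  rfl

/-- sections of a direct image, additively -/
def dnHom (W : X.Etale) (F : EtCoh.Ab P) : (free W ⟶ (EtCoh.push i).obj F) →+ (free ((EtCoh.bc i).obj W) ⟶ F) :=
  AddMonoidHom.mk' (dn i) fun a b => by
    apply sec_injective
    rw [map_add sec, sec_dn, sec_dn, sec_dn, map_add sec]

end transfer

/-- the unit attached to a section, additively -/
def valHom {X : Scheme.{u}} {E : Type u} [Field E] (e : Spec (CommRingCat.of E) ⟶ X) [AlgebraicGeometry.Etale e] :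
    (free (pt e) ⟶ EtCoh.Gm X) →+ Additive Eˣ :=
  AddMonoidHom.mk' (fun φ => Additive.ofMul (val φ)) fun a b => by
    show Additive.ofMul (val (a + b)) = _
    rw [val_add]
    rfl

theorem val_zsmul {X : Scheme.{u}} {E : Type u} [Field E] {e : Spec (CommRingCat.of E) ⟶ X}
    [AlgebraicGeometry.Etale e] (n : ℤ) (φ : free (pt e) ⟶ EtCoh.Gm X) : val (n • φ) = val φ ^ n :=
  congrArg Additive.toMul (map_zsmul (valHom e) n φ)

theorem val_powMap {X : Scheme.{u}} {E : Type u} [Field E] {e : Spec (CommRingCat.of E) ⟶ X}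
    [AlgebraicGeometry.Etale e] (ℓ : ℕ) (φ : free (pt e) ⟶ EtCoh.Gm X) :
    val (φ ≫ EtCoh.powMap X ℓ) = val φ ^ ℓ := by
  rw [EtCoh.powMap, Preadditive.comp_nsmul, Category.comp_id]
  exact congrArg Additive.toMul (map_nsmul (valHom e) ℓ φ)

variable {A : Type u} (K : Type u) [CommRing A] [IsDomain A] [IsDiscreteValuationRing A] [Field K] [Algebra A K]
  [IsFractionRing A K] (ℓ : ℕ) [Epi (EtCoh.powMap (Spec (CommRingCat.of K)) ℓ)]
  {π : A} (hπ : Irreducible π)

/-- the presentation pushed forward -/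
abbrev jg (A : Type u) (K : Type u) [CommRing A] [Field K] [Algebra A K] (ℓ : ℕ) :
    (EtCoh.push (gen A K)).obj (Injective.under (EtCoh.mu (Spec (CommRingCat.of K)) ℓ)) ⟶
      (EtCoh.push (gen A K)).obj (cokernel (Injective.ι (EtCoh.mu (Spec (CommRingCat.of K)) ℓ))) :=
  (EtCoh.push (gen A K)).map (cokernel.π _)

/-- a point of the generic fibre -/
def bcTop : (EtCoh.bc (gen A K)).obj (EtCoh.top (Tr A)) ⟶ pt (𝟙 (Spec (CommRingCat.of K))) :=
  MorphismProperty.Over.homMk ((EtCoh.bc (gen A K)).obj (EtCoh.top (Tr A))).hom (Category.comp_id _) trivial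

/-- the uniformizer as a section -/
def uni : free (pt (𝟙 (Spec (CommRingCat.of K)))) ⟶ EtCoh.Gm (Spec (CommRingCat.of K)) :=
  (val_surjective (𝟙 (Spec (CommRingCat.of K))) (Units.mk0 (algebraMap A K π)
    (fun h => hπ.ne_zero (IsFractionRing.injective A K (h.trans (map_zero _).symm))))).choose

theorem val_uni : (val (uni K hπ) : K) = algebraMap A K π :=
  congrArg Units.val (val_surjective (𝟙 (Spec (CommRingCat.of K))) (Units.mk0 (algebraMap A K π)
    (fun h => hπ.ne_zero (IsFractionRing.injective A K (h.trans (map_zero _).symm))))).choose_spec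

/-- the class of the uniformizer -/
def d0 : free (EtCoh.top (Tr A)) ⟶
    (EtCoh.push (gen A K)).obj (cokernel (Injective.ι (EtCoh.mu (Spec (CommRingCat.of K)) ℓ))) :=
  up (gen A K) (fmap (bcTop K) ≫ uni K hπ ≫ mapB _ ℓ)

theorem exists_nsmul_d0 : ∃ h, ℓ • d0 K ℓ hπ = h ≫ jg A K ℓ := by
  refine ⟨up (gen A K) (fmap (bcTop K) ≫ uni K hπ ≫ mapA _ ℓ), dn_injective _ ?_⟩
  refine (map_nsmul (dnHom (gen A K) (EtCoh.top (Tr A)) _) ℓ (d0 K ℓ hπ)).trans ?_
  show ℓ • dn _ (d0 K ℓ hπ) = _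
  rw [d0, dn_up, dn_comp, dn_up, Category.assoc, Category.assoc, ← pow_mapB, EtCoh.powMap,
    Preadditive.nsmul_comp, Category.id_comp, Preadditive.comp_nsmul, Preadditive.comp_nsmul]

section nb

variable {Ω : Type u} [Field Ω] [Algebra A Ω] [IsSepClosed Ω]

/-- the structure map to the terminal object -/
def toTop {X : Scheme.{u}} (W : X.Etale) : W ⟶ EtCoh.top X :=
  MorphismProperty.Over.homMk W.hom (Category.comp_id _) trivial

/-- the geometric point of the base -/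
def zt : Pts (gpt A Ω) (EtCoh.top (Tr A)) := CategoryTheory.Over.homMk (gpt A Ω) (Category.comp_id _)

theorem fib_toTop {W : (Tr A).Etale} (z : Pts (gpt A Ω) W) : fib (toTop W) (gpt A Ω) z = zt :=
  CategoryTheory.Over.OverMorphism.ext (CategoryTheory.Over.w z)

/-- sections over the generic fibre of a neighbourhood -/
def dnN (N : Nb A Ω) (F : EtCoh.Ab (Spec (CommRingCat.of K))) :
    (free (obj N) ⟶ (EtCoh.push (gen A K)).obj F) →+ (free (pt (eN K N)) ⟶ F) :=
  AddMonoidHom.mk' (fun φ => fmap (kap K N) ≫ dn (gen A K) φ) fun a b => by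
    show fmap (kap K N) ≫ dnHom (gen A K) _ _ (a + b) = _
    rw [map_add, Preadditive.comp_add]
    rfl

theorem dnN_apply (N : Nb A Ω) {F : EtCoh.Ab (Spec (CommRingCat.of K))}
    (φ : free (obj N) ⟶ (EtCoh.push (gen A K)).obj F) : dnN K N F φ = fmap (kap K N) ≫ dn (gen A K) φ := rfl

theorem dnN_bijective (N : Nb A Ω) (F : EtCoh.Ab (Spec (CommRingCat.of K))) : Function.Bijective (dnN K N F) := by
  refine ⟨fun a b h => dn_injective _ ?_, fun ψ => ⟨up (gen A K) (fmap (inv (kap K N)) ≫ ψ), ?_⟩⟩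
  · have h2 := congrArg (fun t => fmap (inv (kap K N)) ≫ t) h
    simpa only [dnN_apply, ← Category.assoc, ← fmap_comp, IsIso.inv_hom_id, fmap_id, Category.id_comp] using h2
  · rw [dnN_apply, dn_up, ← Category.assoc, ← fmap_comp, IsIso.hom_inv_id, fmap_id, Category.id_comp]

theorem dnN_comp (N : Nb A Ω) {F G : EtCoh.Ab (Spec (CommRingCat.of K))}
    (φ : free (obj N) ⟶ (EtCoh.push (gen A K)).obj F) (g : F ⟶ G) :
    dnN K N G (φ ≫ (EtCoh.push (gen A K)).map g) = dnN K N F φ ≫ g := by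
  rw [dnN_apply, dnN_apply, dn_comp, Category.assoc]

/-- the uniformizer over a neighbourhood -/
def uniN (N : Nb A Ω) : free (pt (eN K N)) ⟶ EtCoh.Gm (Spec (CommRingCat.of K)) :=
  fmap (ptMap (algebraMap K (fld N)) (e := 𝟙 _) (e' := eN K N) (Category.comp_id _)) ≫ uni K hπ

theorem val_uniN (N : Nb A Ω) :
    (val (uniN K hπ N) : fld N) = algebraMap N.B (fld N) (algebraMap A N.B π) := by
  rw [uniN, val_fmap]
  show algebraMap K (fld N) (val (uni K hπ) : K) = _
  rw [val_uni, ← IsScalarTower.algebraMap_apply, ← IsScalarTower.algebraMap_apply]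

theorem dnN_d0 (N : Nb A Ω) (n : ℤ) :
    dnN K N _ (n • (fmap (toTop (obj N)) ≫ d0 K ℓ hπ)) = (n • uniN K hπ N) ≫ mapB _ ℓ := by
  rw [map_zsmul, dnN_apply, dn_fmap, d0, dn_up, Preadditive.zsmul_comp, uniN]
  refine congrArg (n • ·) ?_
  simp only [← Category.assoc, ← fmap_comp]
  rw [Category.assoc (fmap (ptMap _ _))]
  exact congrArg (fun t => fmap t ≫ uni K hπ ≫ mapB _ ℓ) (top_hom_ext (X := Spec (CommRingCat.of K)) _ _)

theorem exists_germ {X : Scheme.{u}} {Ω' : Type u} [Field Ω'] [IsSepClosed Ω'] (ξ : Spec (CommRingCat.of Ω') ⟶ X)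
    (F : EtCoh.Ab X) (t : (EtCoh.stalk ξ).obj F) :
    ∃ (W : X.Etale) (z : Pts ξ W) (φ : free W ⟶ F), ((EtCoh.stalk ξ).map φ).hom (br ξ z) = t := by
  obtain ⟨W, z, s, rfl⟩ := (Scheme.pointSmallEtale ξ).toPresheafFiber_jointly_surjective (P := F.obj) t
  exact ⟨W, z, lift s, by rw [map_br, sec_lift]⟩

theorem exists_refine_eq {X : Scheme.{u}} {Ω' : Type u} [Field Ω'] [IsSepClosed Ω'] (ξ : Spec (CommRingCat.of Ω') ⟶ X)
    {F : EtCoh.Ab X} {W : X.Etale} (z : Pts ξ W) (φ ψ : free W ⟶ F)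
    (h : ((EtCoh.stalk ξ).map φ).hom (br ξ z) = ((EtCoh.stalk ξ).map ψ).hom (br ξ z)) :
    ∃ (V : X.Etale) (g : V ⟶ W) (v : Pts ξ V), fib g ξ v = z ∧ fmap g ≫ φ = fmap g ≫ ψ := by
  rw [map_br, map_br] at h
  obtain ⟨V, g, v, hv, hg⟩ := ((Scheme.pointSmallEtale ξ).toPresheafFiber_eq_iff' W z _ _).1 h
  exact ⟨V, g, v, hv, sec_injective (by rw [sec_fmap_comp, sec_fmap_comp]; exact hg)⟩

theorem map_fmap_br {X : Scheme.{u}} {Ω' : Type u} [Field Ω'] [IsSepClosed Ω'] (ξ : Spec (CommRingCat.of Ω') ⟶ X)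
    {F : EtCoh.Ab X} {V W : X.Etale} (g : V ⟶ W) (v : Pts ξ V) (φ : free W ⟶ F) :
    ((EtCoh.stalk ξ).map (fmap g ≫ φ)).hom (br ξ v) = ((EtCoh.stalk ξ).map φ).hom (br ξ (fib g ξ v)) := by
  rw [Functor.map_comp]
  exact congrArg _ (fmap_br ξ g v)

/-- stalk evaluation, additively -/
def ev {X : Scheme.{u}} {Ω' : Type u} [Field Ω'] [IsSepClosed Ω'] (ξ : Spec (CommRingCat.of Ω') ⟶ X)
    {W : X.Etale} (z : Pts ξ W) (F : EtCoh.Ab X) : (free W ⟶ F) →+ (EtCoh.stalk ξ).obj F :=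
  haveI := stalk_additive ξ
  AddMonoidHom.mk' (fun φ => ((EtCoh.stalk ξ).map φ).hom (br ξ z)) fun a b => by rw [Functor.map_add]; rfl

variable (hz : maximalIdeal A ≤ RingHom.ker (algebraMap A Ω))
include hz

/-- the class of the uniformizer has order `ℓ` -/
theorem dvd_of_stalk_eq (n : ℤ)
    (w : (EtCoh.stalk (gpt A Ω)).obj ((EtCoh.push (gen A K)).obj (Injective.under (EtCoh.mu (Spec (CommRingCat.of K)) ℓ))))
    (hw : n • ((EtCoh.stalk (gpt A Ω)).map (d0 K ℓ hπ)).hom (br (gpt A Ω) zt) = ((EtCoh.stalk (gpt A Ω)).map (jg A K ℓ)).hom w) :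
    (ℓ : ℤ) ∣ n := by
  obtain ⟨W, z, φ, rfl⟩ := exists_germ _ _ w
  have h1 : ((EtCoh.stalk (gpt A Ω)).map (n • (fmap (toTop W) ≫ d0 K ℓ hπ))).hom (br (gpt A Ω) z) =
      ((EtCoh.stalk (gpt A Ω)).map (φ ≫ jg A K ℓ)).hom (br (gpt A Ω) z) := by
    refine (map_zsmul (ev (gpt A Ω) z _) n _).trans ?_
    show n • ((EtCoh.stalk (gpt A Ω)).map (fmap (toTop W) ≫ d0 K ℓ hπ)).hom (br (gpt A Ω) z) = _
    rw [map_fmap_br, fib_toTop, hw, Functor.map_comp]
    rfl
  obtain ⟨V, g, v, -, hg⟩ := exists_refine_eq _ z _ _ h1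
  obtain ⟨M, h, -⟩ := exists_refine hz V v
  have h2 := congrArg (fun t => dnN K M _ (fmap h ≫ t)) hg
  simp only [Preadditive.comp_zsmul, ← Category.assoc, ← fmap_comp] at h2
  rw [show ((h ≫ g) ≫ toTop W) = toTop (obj M) from top_hom_ext _ _, dnN_d0, dnN_comp] at h2
  obtain ⟨r, hr⟩ := exists_root_of_mapB _ _ h2
  have h3 : val r ^ ℓ = val (uniN K hπ M) ^ n := by rw [← val_zsmul, ← hr, val_powMap]
  -- compare valuations
  set ρ := algebraMap A M.B π
  have hρ : Irreducible ρ := M.irreducible hπ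
  obtain ⟨a, b, hb, hab⟩ := IsFractionRing.div_surjective M.B (val r : fld M)
  have hb0 : b ≠ 0 := nonZeroDivisors.ne_zero hb
  have hinj := IsFractionRing.injective M.B (fld M)
  have hb' : algebraMap M.B (fld M) b ≠ 0 := fun h => hb0 (hinj (h.trans (map_zero _).symm))
  have hρ' : algebraMap M.B (fld M) ρ ≠ 0 := fun h => hρ.ne_zero (hinj (h.trans (map_zero _).symm))
  have ha0 : a ≠ 0 := fun h => (val r).ne_zero (by rw [← hab, h, map_zero, zero_div])
  obtain ⟨i, ua, rfl⟩ := IsDiscreteValuationRing.eq_unit_mul_pow_irreducible ha0 hρ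
  obtain ⟨k, ub, rfl⟩ := IsDiscreteValuationRing.eq_unit_mul_pow_irreducible hb0 hρ
  obtain ⟨p, q, rfl⟩ : ∃ p q : ℕ, n = (p : ℤ) - q := ⟨n.toNat, (-n).toNat, (Int.toNat_sub_toNat_neg n).symm⟩
  have h4 : ((val r : fld M)) ^ ℓ * algebraMap M.B (fld M) ρ ^ q = algebraMap M.B (fld M) ρ ^ p := by
    rw [← Units.val_pow_eq_pow_val, h3, Units.val_zpow_eq_zpow_val, val_uniN, zpow_sub₀ hρ', zpow_natCast,
      zpow_natCast, div_mul_cancel₀ _ (pow_ne_zero _ hρ')]
  rw [← hab, div_pow, div_mul_eq_mul_div, div_eq_iff (pow_ne_zero _ hb')] at h4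
  have h5 := congrArg (IsDiscreteValuationRing.addVal M.B) (hinj
    (show algebraMap M.B (fld M) ((↑ua * ρ ^ i) ^ ℓ * ρ ^ q) = algebraMap M.B (fld M) (ρ ^ p * (↑ub * ρ ^ k) ^ ℓ) by
      simpa only [map_mul, map_pow] using h4))
  simp only [IsDiscreteValuationRing.addVal_mul, IsDiscreteValuationRing.addVal_pow,
    IsDiscreteValuationRing.addVal_uniformizer hρ,
    IsDiscreteValuationRing.addVal_eq_zero_of_unit] at h5
  have h6 : ℓ * i + q = p + ℓ * k := by
    simp only [zero_add, nsmul_eq_mul, mul_one] at h5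
    exact_mod_cast h5
  refine ⟨(i : ℤ) - k, ?_⟩
  have h7 : (ℓ : ℤ) * i + q = p + ℓ * k := by exact_mod_cast h6
  rw [mul_sub]
  linarith

/-- every germ is a multiple of the class of the uniformizer -/
theorem exists_stalk_eq (hℓ : 1 ≤ ℓ) (hℓA : IsUnit (ℓ : A))
    (t : (EtCoh.stalk (gpt A Ω)).obj ((EtCoh.push (gen A K)).obj (cokernel (Injective.ι (EtCoh.mu (Spec (CommRingCat.of K)) ℓ))))) :
    ∃ (n : ℤ) (w : _), t = n • ((EtCoh.stalk (gpt A Ω)).map (d0 K ℓ hπ)).hom (br (gpt A Ω) zt) +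
      ((EtCoh.stalk (gpt A Ω)).map (jg A K ℓ)).hom w := by
  obtain ⟨W, z, φ₀, rfl⟩ := exists_germ _ _ t
  obtain ⟨N, h₀, rfl⟩ := exists_refine hz W z
  rw [← map_fmap_br]
  generalize fmap h₀ ≫ φ₀ = φ
  obtain ⟨w0, h, hdec⟩ := exists_decomp (eN K N) (dnN K N _ φ)
  -- the unit part
  set ρ := algebraMap A N.B π
  have hρ : Irreducible ρ := N.irreducible hπ
  have hinj := IsFractionRing.injective N.B (fld N)
  obtain ⟨a, b, hb, hab⟩ := IsFractionRing.div_surjective N.B (val w0 : fld N)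
  have hb0 : b ≠ 0 := nonZeroDivisors.ne_zero hb
  have ha0 : a ≠ 0 := fun h => (val w0).ne_zero (by rw [← hab, h, map_zero, zero_div])
  obtain ⟨i, ua, rfl⟩ := IsDiscreteValuationRing.eq_unit_mul_pow_irreducible ha0 hρ
  obtain ⟨k, ub, rfl⟩ := IsDiscreteValuationRing.eq_unit_mul_pow_irreducible hb0 hρ
  obtain ⟨M, f, ω, hfz, hω⟩ := exists_nb_root N hz hℓ hℓA (ua * ub⁻¹)
  have hf : Function.Injective f := injective_hom f
  have hsq : Spec.map (CommRingCat.ofHom (fldMap f hf)) ≫ eN K N = eN K M := by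
    rw [← Spec.map_comp, ← CommRingCat.ofHom_comp, fldMap_comp]
  obtain ⟨r, hr⟩ := val_surjective (eN K M) (Units.map (algebraMap M.B (fld M)).toMonoidHom ω)
  let p := ptMap (fldMap f hf) hsq
  have hval : fmap p ≫ w0 = ((i : ℤ) - k) • uniN K hπ M + r ≫ EtCoh.powMap _ ℓ := by
    refine val_injective (Units.ext ?_)
    rw [val_fmap, val_add, val_zsmul, val_powMap, hr, ← map_pow, hω]
    have hρM : algebraMap M.B (fld M) (algebraMap A M.B π) ≠ 0 := fun h =>
      (M.irreducible hπ).ne_zero (IsFractionRing.injective M.B (fld M) (h.trans (map_zero _).symm))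
    have hub : algebraMap M.B (fld M) (f (ub : N.B)) ≠ 0 := ((ub.isUnit.map f).map _).ne_zero
    show fldMap f hf (val w0 : fld N) = ((val (uniN K hπ M) ^ ((i : ℤ) - k) : (fld M)ˣ) : fld M) *
      algebraMap M.B (fld M) (f ((ua * ub⁻¹ : N.Bˣ) : N.B))
    rw [← hab, map_div₀, fldMap_algebraMap, fldMap_algebraMap, Units.val_zpow_eq_zpow_val, val_uniN, zpow_sub₀ hρM,
      zpow_natCast, zpow_natCast]
    simp only [ρ, map_mul, map_pow, AlgHom.commutes, Units.val_mul]
    rw [show algebraMap M.B (fld M) (f ((ub⁻¹ : N.Bˣ) : N.B)) = (algebraMap M.B (fld M) (f (ub : N.B)))⁻¹ from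
      eq_inv_of_mul_eq_one_left (by rw [← map_mul, ← map_mul, Units.inv_mul, map_one, map_one])]
    field_simp
  obtain ⟨h', hh'⟩ := (dnN_bijective K M _).2 (r ≫ mapA _ ℓ + fmap p ≫ h)
  have key : fmap (hom f) ≫ φ = ((i : ℤ) - k) • (fmap (toTop (obj M)) ≫ d0 K ℓ hπ) + h' ≫ jg A K ℓ := by
    refine (dnN_bijective K M _).1 ?_
    rw [map_add, dnN_d0, dnN_comp, hh', dnN_apply, dn_fmap, ← Category.assoc, ← fmap_comp,
      kap_naturality K f hf hsq, fmap_comp, Category.assoc, ← dnN_apply, hdec, Preadditive.comp_add,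
      ← Category.assoc, hval, Preadditive.add_comp, Preadditive.add_comp, Category.assoc, pow_mapB,
      Category.assoc, Category.assoc, add_assoc]
  refine ⟨(i : ℤ) - k, ((EtCoh.stalk (gpt A Ω)).map h').hom (br (gpt A Ω) (pnt M)), ?_⟩
  rw [← hom_pnt f hfz, ← map_fmap_br, key]
  refine (map_add (ev (gpt A Ω) (pnt M) _) _ _).trans ?_
  rw [map_zsmul]
  refine congrArg₂ (fun x y => ((i : ℤ) - k) • x + y) ?_ ?_
  · show ((EtCoh.stalk (gpt A Ω)).map (fmap (toTop (obj M)) ≫ d0 K ℓ hπ)).hom (br (gpt A Ω) (pnt M)) = _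
    rw [map_fmap_br, fib_toTop]
  · show ((EtCoh.stalk (gpt A Ω)).map (h' ≫ jg A K ℓ)).hom _ = _
    rw [Functor.map_comp]
    rfl

end nb

end Groth.Agent.EtDvrCd
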